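import Mathlib

set_option autoImplicit false

/-! Complex additive characters of a finite field. -/

namespace CfsgLib.CharBound

variable {F : Type*} [Field F] [Fintype F]

/-- Every additive character is a multiplicative shift of a non-trivial one. -/
theorem exists_mulShift (lam : AddChar F ℂ) (hlam : lam ≠ 1) (ψ : F → ℂ) (h0 : ψ 0 = 1)
    (hadd : ∀ a b, ψ (a + b) = ψ a * ψ b) : ∃ γ : F, ∀ a, ψ a = lam (γ * a) := by
  classical
  let ψ' : AddChar F ℂ := ⟨ψ, h0, hadd⟩
  have hinj : Function.Injective fun γ : F => lam.mulShift γ :=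
    AddChar.to_mulShift_inj_of_isPrimitive (AddChar.IsPrimitive.of_ne_one hlam)
  have hbij := (Fintype.bijective_iff_injective_and_card (fun γ : F => lam.mulShift γ)).mpr
    ⟨hinj, AddChar.card_eq.symm⟩
  obtain ⟨γ, hγ⟩ := hbij.2 ψ'
  exact ⟨γ, fun a => (DFunLike.congr_fun hγ a).symm⟩

theorem mulShift_left_cancel (lam : AddChar F ℂ) (hlam : lam ≠ 1) {γ δ : F}
    (h : ∀ a, lam (γ * a) = lam (δ * a)) : γ = δ :=
  AddChar.to_mulShift_inj_of_isPrimitive (AddChar.IsPrimitive.of_ne_one hlam) (DFunLike.ext _ _ h)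

/-- In characteristic two there is a non-trivial character `lam` with `lam (x ^ 2) = lam x`; its kernel is then the
set of the `x ^ 2 + x`. -/
theorem exists_artinSchreier_char [CharP F 2] :
    ∃ lam : AddChar F ℂ, lam ≠ 1 ∧ (∀ x, lam (x * x) = lam x) ∧ (∀ c, lam c = 1 → ∃ x, x * x + x = c) := by
  classical
  let f : F →+ F := AddMonoidHom.mk' (fun x => x * x + x) (fun a b => by
    have : (2 : F) = 0 := CharTwo.two_eq_zero
    linear_combination (a * b) * this)
  have hker : f.ker ≤ AddSubgroup.zmultiples (1 : F) := by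
    intro x hx
    have hx' : x * (x + 1) = 0 := by
      rw [AddMonoidHom.mem_ker] at hx
      rw [mul_add, mul_one]; exact hx
    rcases mul_eq_zero.mp hx' with h | h
    · rw [h]; exact zero_mem _
    · rw [eq_neg_of_add_eq_zero_left h]; exact neg_mem (AddSubgroup.mem_zmultiples 1)
  have hnt : f.range ≠ ⊤ := by
    intro h
    have hs : Function.Surjective f := AddMonoidHom.range_eq_top.mp h
    have h1 : f 1 = f 0 := by simp [f, CharTwo.add_self_eq_zero]
    exact one_ne_zero ((Finite.injective_iff_surjective.mpr hs) h1)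
  obtain ⟨c₀, hc₀⟩ : ∃ c, c ∉ f.range := by
    by_contra hcon
    push Not at hcon
    exact hnt (eq_top_iff.mpr fun c _ => hcon c)
  have hq : (c₀ : F ⧸ f.range) ≠ 0 := fun h => hc₀ ((QuotientAddGroup.eq_zero_iff c₀).mp h)
  obtain ⟨ψ, hψ⟩ := AddChar.exists_apply_ne_zero.mpr hq
  let lam : AddChar F ℂ := ψ.compAddMonoidHom (QuotientAddGroup.mk' f.range)
  have hrange : ∀ x, lam (f x) = 1 := fun x => by
    show ψ ((f x : F) : F ⧸ f.range) = 1
    have hm : f x ∈ f.range := ⟨x, rfl⟩
    rw [(QuotientAddGroup.eq_zero_iff (f x)).mpr hm, AddChar.map_zero_eq_one]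
  have hlam : lam ≠ 1 := fun h => hψ (show lam c₀ = 1 by rw [h]; rfl)
  have hsq : ∀ x, lam (x * x) = lam x := by
    intro x
    have h1 : lam (x * x) * lam x = 1 := by rw [← AddChar.map_add_eq_mul]; exact hrange x
    have h2 : lam x * lam x = 1 := by
      rw [← AddChar.map_add_eq_mul, CharTwo.add_self_eq_zero, AddChar.map_zero_eq_one]
    exact mul_right_cancel₀ (AddChar.val_isUnit lam x).ne_zero (h1.trans h2.symm)
  refine ⟨lam, hlam, hsq, fun c hc => ?_⟩
  let K : AddSubgroup F :=
    { carrier := {x | lam x = 1}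
      zero_mem' := lam.map_zero_eq_one
      add_mem' := fun {a b} ha hb => by
        rw [Set.mem_setOf_eq] at *; rw [AddChar.map_add_eq_mul, ha, hb, one_mul]
      neg_mem' := fun {a} ha => by rwa [Set.mem_setOf_eq, CharTwo.neg_eq] }
  have hle : f.range ≤ K := by rintro _ ⟨x, rfl⟩; exact hrange x
  have hK : K ≠ ⊤ := fun h => hlam (DFunLike.ext _ _ fun x => by
    have : x ∈ K := h ▸ AddSubgroup.mem_top x
    rw [AddChar.one_apply]
    exact this)
  -- both subgroups have index two
  have hidx : f.range.index ≤ 2 := by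
    have h1 : Nat.card f.ker ≤ 2 := by
      refine le_trans (Nat.card_mono (Set.toFinite _) hker) ?_
      show Nat.card (AddSubgroup.zmultiples (1 : F)) ≤ 2
      rw [Nat.card_zmultiples]
      exact Nat.le_of_dvd two_pos (addOrderOf_dvd_of_nsmul_eq_zero (by
        rw [two_nsmul, CharTwo.add_self_eq_zero]))
    have h2 := AddSubgroup.card_mul_index f.range
    have h3 : Nat.card f.range * Nat.card f.ker = Nat.card F := by
      rw [← AddSubgroup.index_ker, mul_comm, AddSubgroup.card_mul_index]
    have h4 : 0 < Nat.card f.range := Nat.card_pos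
    exact le_trans (le_of_eq (Nat.eq_of_mul_eq_mul_left h4 (h2.trans h3.symm))) h1
  have hK2 : 2 ≤ K.index := by
    have h1 : K.index ≠ 1 := fun h => hK (AddSubgroup.index_eq_one.mp h)
    have h2 : K.index ≠ 0 := AddSubgroup.index_ne_zero_of_finite
    omega
  have heq : f.range = K := by
    refine le_antisymm hle fun x hx => ?_
    by_contra hx'
    have hlt : f.range < K := lt_of_le_not_ge hle fun h => hx' (h hx)
    have := AddSubgroup.index_strictAnti hlt
    omega
  have : c ∈ f.range := heq ▸ (show c ∈ K from hc)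
  exact this

end CfsgLib.CharBound
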