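import Mathlib

set_option autoImplicit false

/-!
Eigencharacters of families of operators: independence of eigenspaces for distinct eigencharacters,
existence of a non-trivial eigencharacter, and the dimension bound coming from operators that are
eigenvectors for conjugation by other operators.
-/

namespace CfsgLib.CharBound

open Module

variable {K V : Type*} [Field K] [AddCommGroup V] [Module K V]

/-- Independence of subspaces on which the operators act by distinct eigencharacters. -/
theorem eq_zero_of_sum_eigen {A ι : Type*} (f : A → V →ₗ[K] V) (χ : ι → A → K)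
    (hχ : Function.Injective χ) (s : Finset ι) (v : ι → V)
    (hv : ∀ i ∈ s, ∀ a, f a (v i) = χ i a • v i) (hsum : ∑ i ∈ s, v i = 0) :
    ∀ i ∈ s, v i = 0 := by
  classical
  induction s using Finset.induction_on generalizing v with
  | empty => simp
  | @insert j s hj ih =>
    have key : ∀ a, ∀ i ∈ s, (χ i a - χ j a) • v i = 0 := by
      intro a
      refine ih (fun i => (χ i a - χ j a) • v i) ?_ ?_
      · intro i hi b
        rw [map_smul, hv i (Finset.mem_insert_of_mem hi) b, smul_comm]
      · have h1 : ∑ i ∈ insert j s, (χ i a - χ j a) • v i = 0 := by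
          simp only [sub_smul, Finset.sum_sub_distrib, ← Finset.smul_sum, hsum, smul_zero, sub_zero]
          rw [← Finset.sum_congr rfl fun i hi => hv i hi a, ← map_sum, hsum, map_zero]
        rwa [Finset.sum_insert hj, sub_self, zero_smul, zero_add] at h1
    have hs : ∀ i ∈ s, v i = 0 := by
      intro i hi
      obtain ⟨a, ha⟩ := Function.ne_iff.mp (hχ.ne (fun h : i = j => hj (h ▸ hi)))
      exact (smul_eq_zero.mp (key a i hi)).resolve_left (sub_ne_zero.mpr ha)
    intro i hi
    rcases Finset.mem_insert.mp hi with rfl | hi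
    · rw [Finset.sum_insert hj, Finset.sum_eq_zero hs, add_zero] at hsum
      exact hsum
    · exact hs i hi

/-- Eigenspaces for distinct eigencharacters: the sum of their dimensions is at most the dimension. -/
theorem card_mul_le_finrank [FiniteDimensional K V] {A ι : Type*} [Fintype ι] (f : A → V →ₗ[K] V)
    (χ : ι → A → K) (hχ : Function.Injective χ) (W : ι → Submodule K V)
    (hW : ∀ i, ∀ v ∈ W i, ∀ a, f a v = χ i a • v) {d : ℕ} (hd : ∀ i, d ≤ finrank K (W i)) :
    Fintype.card ι * d ≤ finrank K V := by
  classical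
  let S : (∀ i, W i) →ₗ[K] V := ∑ i, (W i).subtype.comp (LinearMap.proj i)
  have hS : Function.Injective S := by
    refine LinearMap.ker_eq_bot.mp (LinearMap.ker_eq_bot'.mpr fun x hx => ?_)
    funext i
    refine Subtype.ext (eq_zero_of_sum_eigen f χ hχ Finset.univ (fun i => (x i : V))
      (fun i _ a => hW i _ (x i).2 a) ?_ i (Finset.mem_univ i))
    simpa [S] using hx
  have h1 := LinearMap.finrank_le_finrank_of_injective hS
  rw [finrank_pi_fintype] at h1
  refine le_trans ?_ h1
  have := Finset.card_nsmul_le_sum Finset.univ (fun i => finrank K (W i)) d (fun i _ => hd i)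
  simpa using this

/-- Distinct eigencharacters with non-zero eigenvectors are at most the dimension in number. -/
theorem card_le_finrank [FiniteDimensional K V] {A ι : Type*} [Fintype ι] (f : A → V →ₗ[K] V)
    (χ : ι → A → K) (hχ : Function.Injective χ) (v : ι → V) (hv0 : ∀ i, v i ≠ 0)
    (hv : ∀ i a, f a (v i) = χ i a • v i) : Fintype.card ι ≤ finrank K V := by
  have := card_mul_le_finrank f χ hχ (fun i => K ∙ v i)
    (fun i x hx a => by
      obtain ⟨c, rfl⟩ := Submodule.mem_span_singleton.mp hx
      rw [map_smul, hv, smul_comm]) (d := 1)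
    (fun i => by rw [finrank_span_singleton (hv0 i)])
  simpa using this

/-- Invertible operators of a space that are eigenvectors, with distinct characters, for conjugation
by other invertible operators are at most `(dim)²` in number. -/
theorem card_le_finrank_sq [FiniteDimensional K V] [Nontrivial V] {A ι : Type*} [Fintype ι]
    (x : ι → (V →ₗ[K] V)ˣ) (y : A → (V →ₗ[K] V)ˣ) (χ : ι → A → K) (hχ : Function.Injective χ)
    (h : ∀ i a, ((y a * x i * (y a)⁻¹ : (V →ₗ[K] V)ˣ) : V →ₗ[K] V) = χ i a • (x i : V →ₗ[K] V)) :
    Fintype.card ι ≤ finrank K V * finrank K V := by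
  rw [← Module.finrank_linearMap K K V V]
  refine card_le_finrank (V := V →ₗ[K] V)
    (fun a => (LinearMap.mulLeft K (y a : V →ₗ[K] V)).comp
      (LinearMap.mulRight K (((y a)⁻¹ : (V →ₗ[K] V)ˣ) : V →ₗ[K] V))) χ hχ
    (fun i => (x i : V →ₗ[K] V)) (fun i => (x i).ne_zero) (fun i a => ?_)
  rw [← h i a]
  simp [mul_assoc]

/-- A commuting family of operators on a non-zero space over an algebraically closed field has a
common eigenvector inside every non-zero invariant subspace. -/
theorem exists_common_eigen [IsAlgClosed K] [FiniteDimensional K V] {A : Type*} (f : A → V →ₗ[K] V)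
    (hcomm : ∀ a b, Commute (f a) (f b)) (W : Submodule K V) (hW : W ≠ ⊥)
    (hinv : ∀ a, ∀ v ∈ W, f a v ∈ W) :
    ∃ (v : V) (χ : A → K), v ≠ 0 ∧ v ∈ W ∧ ∀ a, f a v = χ a • v := by
  classical
  let P : ℕ → Prop := fun n =>
    ∃ U : Submodule K V, U ≤ W ∧ U ≠ ⊥ ∧ (∀ a, ∀ v ∈ U, f a v ∈ U) ∧ finrank K U = n
  have hP : ∃ n, P n := ⟨_, W, le_rfl, hW, hinv, rfl⟩
  obtain ⟨U, hUW, hU, hUinv, hUn⟩ := Nat.find_spec hP
  haveI : Nontrivial U := Submodule.nontrivial_iff_ne_bot.mpr hU
  have scal : ∀ a, ∃ c : K, ∀ v ∈ U, f a v = c • v := by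
    intro a
    obtain ⟨c, hc⟩ := Module.End.exists_eigenvalue (K := K) ((f a).restrict (hUinv a))
    obtain ⟨u, hu⟩ := hc.exists_hasEigenvector
    let U' : Submodule K V := U ⊓ LinearMap.ker (f a - c • LinearMap.id)
    have hmem : (u : V) ∈ U' := by
      refine ⟨u.2, ?_⟩
      have h1 := congrArg Subtype.val hu.apply_eq_smul
      simp only [LinearMap.coe_restrict_apply, Submodule.coe_smul] at h1
      simp [sub_eq_zero, h1]
    have hne : U' ≠ ⊥ := fun h => hu.2 (Subtype.ext (by simpa [h] using hmem))
    have hinv' : ∀ b, ∀ v ∈ U', f b v ∈ U' := by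
      rintro b v ⟨h1, h2⟩
      refine ⟨hUinv b v h1, ?_⟩
      have h3 : f a v = c • v := by simpa [sub_eq_zero] using h2
      have h4 : f a (f b v) = f b (f a v) := LinearMap.congr_fun (hcomm a b) v
      simp [sub_eq_zero, h4, h3]
    have heq : U' = U := by
      refine Submodule.eq_of_le_of_finrank_le inf_le_left ?_
      rw [hUn]
      exact Nat.find_min' hP ⟨U', inf_le_left.trans hUW, hne, hinv', rfl⟩
    refine ⟨c, fun v hv => ?_⟩
    have : v ∈ U' := heq ▸ hv
    simpa [sub_eq_zero] using this.2
  choose χ hχ using scal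
  obtain ⟨v, hv, hv0⟩ := Submodule.exists_mem_ne_zero_of_ne_bot hU
  exact ⟨v, χ, hv0, hUW hv, fun a => hχ a v hv⟩

/-- A linear map of finite order invertible in the field, with no eigenvalue but `1`, is the identity. -/
theorem exists_eigen_ne_one [IsAlgClosed K] [FiniteDimensional K V] (g : V →ₗ[K] V) {N : ℕ}
    (hN : (N : K) ≠ 0) (hg : g ^ N = 1) (hne : g ≠ 1) :
    ∃ c : K, c ≠ 1 ∧ Module.End.eigenspace g c ≠ ⊥ := by
  classical
  by_contra hcon
  push Not at hcon
  have h2 : ∀ v, (g - 1) ((g - 1) v) = 0 → (g - 1) v = 0 := by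
    intro v hv
    set w := (g - 1) v with hw
    have hgv : g v = v + w := by rw [hw]; simp
    have hgw : g w = w := sub_eq_zero.mp (by simpa using hv)
    have hp : ∀ k : ℕ, (g ^ k) v = v + (k : K) • w := by
      intro k
      induction k with
      | zero => simp
      | succ k ih =>
        rw [pow_succ', Module.End.mul_apply, ih, map_add, map_smul, hgv, hgw, Nat.cast_succ, add_smul,
          one_smul]
        abel
    have := hp N
    rw [hg, Module.End.one_apply, left_eq_add] at this
    exact (smul_eq_zero.mp this).resolve_left hN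
  have hstab : ∀ (k : ℕ) (v : V), ((g - 1) ^ k) v = 0 → (g - 1) v = 0 := by
    intro k
    induction k with
    | zero => intro v hv; simp at hv; simp [hv]
    | succ k ih => intro v hv; exact h2 v (ih _ (by rwa [pow_succ, Module.End.mul_apply] at hv))
  have htop := Module.End.iSup_maxGenEigenspace_eq_top g
  have hle : (⊤ : Submodule K V) ≤ LinearMap.ker (g - 1) := by
    rw [← htop]
    refine iSup_le fun c v hv => ?_
    obtain ⟨k, hk⟩ := (Module.End.mem_maxGenEigenspace _ _ _).mp hv
    by_cases hc : c = 1
    · subst hc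
      rw [one_smul] at hk
      exact LinearMap.mem_ker.mpr (hstab k v hk)
    · have : Module.End.maxGenEigenspace g c = ⊥ := by
        by_contra h
        exact (Module.End.HasUnifEigenvalue.lt zero_lt_one h) (hcon c hc)
      rw [this, Submodule.mem_bot] at hv
      simp [hv]
  exact hne (LinearMap.ext fun v => sub_eq_zero.mp (by simpa using hle (Submodule.mem_top (x := v))))

/-- A commutative family acting on a space, some member non-trivially with finite order invertible in
the field, has an eigencharacter that is non-trivial at that member. -/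
theorem exists_nontrivial_eigen [IsAlgClosed K] [FiniteDimensional K V] {A : Type*} (f : A → V →ₗ[K] V)
    (hcomm : ∀ a b, Commute (f a) (f b)) (a : A) {N : ℕ} (hN : (N : K) ≠ 0) (ha : f a ^ N = 1)
    (hne : f a ≠ 1) : ∃ (v : V) (χ : A → K), v ≠ 0 ∧ χ a ≠ 1 ∧ ∀ b, f b v = χ b • v := by
  obtain ⟨c, hc, hE⟩ := exists_eigen_ne_one (f a) hN ha hne
  obtain ⟨v, χ, hv0, hvW, hv⟩ := exists_common_eigen f hcomm (Module.End.eigenspace (f a) c) hE
    (fun b v hv => by
      rw [Module.End.mem_eigenspace_iff] at hv ⊢
      have h4 : f a (f b v) = f b (f a v) := LinearMap.congr_fun (hcomm a b) v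
      rw [h4, hv, map_smul])
  refine ⟨v, χ, hv0, ?_, hv⟩
  have h1 := Module.End.mem_eigenspace_iff.mp hvW
  rw [hv a] at h1
  have : χ a = c := smul_left_injective K hv0 h1
  rwa [this]

end CfsgLib.CharBound
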