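import Cfsg.Agent.Lib.CharBound.Basic

set_option autoImplicit false

/-!
Degree bounds in cross characteristic from the orbit of an eigencharacter of an elementary abelian
subgroup `F^m`.
-/

namespace CfsgLib.CharBound

open Matrix Module
open scoped MatrixGroups

universe v w

variable {F : Type*} [Field F] [Fintype F]

/-- All additive characters of `F^m` come from one non-trivial character of `F`. -/
theorem exists_eq_dotProduct {L : Type*} [Field L] {m : ℕ} (lam : AddChar F L) (hlam : ∃ c, lam c ≠ 1)
    (χ : AddChar (Fin m → F) L) : ∃ u : Fin m → F, ∀ v, χ v = lam (u ⬝ᵥ v) := by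
  classical
  obtain ⟨c₀, hc₀⟩ := hlam
  let φ : (Fin m → F) → AddChar (Fin m → F) L := fun u =>
    lam.compAddMonoidHom (AddMonoidHom.mk' (fun v => u ⬝ᵥ v) (fun a b => dotProduct_add u a b))
  have hφ : Function.Injective φ := by
    intro u u' h
    by_contra hne
    obtain ⟨j, hj⟩ := Function.ne_iff.mp hne
    have h1 := DFunLike.congr_fun h (Pi.single j (c₀ / (u j - u' j)))
    simp only [φ, AddChar.compAddMonoidHom_apply, AddMonoidHom.mk'_apply, dotProduct_single] at h1
    apply hc₀
    have hd : u j - u' j ≠ 0 := sub_ne_zero.mpr hj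
    have h2 : lam c₀ * lam (u' j * (c₀ / (u j - u' j))) = 1 * lam (u' j * (c₀ / (u j - u' j))) := by
      rw [one_mul, ← AddChar.map_add_eq_mul]
      conv_rhs => rw [← h1]
      congr 1
      field_simp
      ring
    refine mul_right_cancel₀ (IsUnit.ne_zero ?_) h2
    exact AddChar.val_isUnit lam _
  by_contra hcon
  push Not at hcon
  let all : Option (Fin m → F) → AddChar (Fin m → F) L := fun o => o.elim χ φ
  have hall : Function.Injective all := by
    rintro (_ | a) (_ | b) h
    · rfl
    · exact absurd h (fun e => by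
        obtain ⟨v, hv⟩ := hcon b
        exact hv (DFunLike.congr_fun e v))
    · exact absurd h.symm (fun e => by
        obtain ⟨v, hv⟩ := hcon a
        exact hv (DFunLike.congr_fun e v))
    · exact congrArg some (hφ h)
  have hli := (linearIndependent_monoidHom (Multiplicative (Fin m → F)) L).comp
    (fun o => (all o).toMonoidHom)
    (fun a b h => hall (DFunLike.ext _ _ fun x => DFunLike.congr_fun h (Multiplicative.ofAdd x)))
  have := hli.fintype_card_le_finrank
  rw [Fintype.card_option, finrank_pi, Fintype.card_multiplicative] at this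
  omega

variable {K : Type v} [Field K] {G : Type*} [Group G]

/-- The orbit bound: if some member of the subgroup acts non-trivially, a character non-trivial at it occurs, and every family of normalising elements separating the translates of such a character has at most `d` members. -/
theorem exists_char_orbit_bound {p : ℕ} [Fact p.Prime] [CharP F p] (hp : (p : K) ≠ 0) {d m : ℕ}
    (ρ : G →* GL (Fin d) K) (E : Multiplicative (Fin m → F) →* G) (a : Fin m → F)
    (ha : ρ (E (.ofAdd a)) ≠ 1) :
    ∃ (L : Type v) (_ : Field L) (χ : AddChar (Fin m → F) L), χ a ≠ 1 ∧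
      ∀ {ι : Type w} [Fintype ι] (g : ι → G) (T : ι → (Fin m → F) → (Fin m → F)),
        (∀ i v, g i * E (.ofAdd v) = E (.ofAdd (T i v)) * g i) →
        Function.Injective (fun i v => χ (T i v)) → Fintype.card ι ≤ d := by
  classical
  let L := AlgebraicClosure K
  let ρ' : G →* GL (Fin d) L := (Matrix.GeneralLinearGroup.map (algebraMap K L)).comp ρ
  let e := Matrix.toLinAlgEquiv' (R := L) (n := Fin d)
  let P : G → (Fin d → L) →ₗ[L] (Fin d → L) := fun x => e (ρ' x : Matrix (Fin d) (Fin d) L)
  have hP : ∀ x y, P (x * y) = P x * P y := fun x y => by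
    simp only [P, map_mul, Units.val_mul]
  have hP1 : P 1 = 1 := by simp only [P, map_one, Units.val_one]
  let f : (Fin m → F) → (Fin d → L) →ₗ[L] (Fin d → L) := fun v => P (E (.ofAdd v))
  have hf : ∀ v w, f v * f w = f (v + w) := fun v w => by
    simp only [f]; rw [← hP, ← map_mul, ← ofAdd_add]
  have hf0 : f 0 = 1 := by simp only [f, ofAdd_zero, map_one, hP1]
  have hfp : f a ^ p = 1 := by
    have : ∀ k : ℕ, f a ^ k = f (k • a) := by
      intro k
      induction k with
      | zero => simp [hf0]
      | succ k ih => rw [pow_succ, ih, hf, succ_nsmul]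
    rw [this]
    have : (p • a) = 0 := by
      funext j; simp
    rw [this, hf0]
  have hfa : f a ≠ 1 := by
    intro h
    refine ha (Units.ext ?_)
    have h1 : (ρ' (E (.ofAdd a)) : Matrix (Fin d) (Fin d) L) = 1 := e.injective (h.trans (map_one e).symm)
    exact Matrix.map_injective (algebraMap K L).injective
      (h1.trans (Matrix.map_one _ (map_zero _) (map_one _)).symm)
  obtain ⟨x, χ₀, hx, hχa, hχ⟩ := exists_nontrivial_eigen f
    (fun v w => by rw [Commute, SemiconjBy, hf, hf, add_comm]) a
    (N := p) (by rw [← map_natCast (algebraMap K L)]; exact (map_ne_zero _).mpr hp) hfp hfa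
  have inj : ∀ {s t : L}, s • x = t • x → s = t := fun h => smul_left_injective L hx h
  let χ : AddChar (Fin m → F) L := ⟨χ₀, inj (by rw [← hχ, hf0, Module.End.one_apply, one_smul]),
    fun v w => inj (by rw [← hχ, ← hf, Module.End.mul_apply, hχ w, map_smul, hχ v, smul_smul, mul_comm])⟩
  refine ⟨L, inferInstance, χ, hχa, fun {ι} _ g T hT hinj => ?_⟩
  have hne : ∀ i, P (g i)⁻¹ x ≠ 0 := by
    intro i h
    have h' := congrArg (P (g i)) h
    rw [← Module.End.mul_apply, ← hP, mul_inv_cancel, hP1, map_zero] at h'
    exact hx h'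
  have := card_le_finrank f (fun i v => χ (T i v)) hinj (fun i => P (g i)⁻¹ x) hne (fun i v => by
    rw [← Module.End.mul_apply, ← hP]
    have : E (.ofAdd v) * (g i)⁻¹ = (g i)⁻¹ * E (.ofAdd (T i v)) := by
      rw [eq_inv_mul_iff_mul_eq, ← mul_assoc, hT, mul_inv_cancel_right]
    rw [this, hP, Module.End.mul_apply, show P (E (.ofAdd (T i v))) x = f (T i v) x from rfl, hχ, map_smul]
    rfl)
  simpa using this

theorem natCast_ne_zero_of_ringChar_ne {F' K' : Type*} [Field F'] [Fintype F'] [Field K']
    (h : ringChar K' ≠ ringChar F') : (ringChar F' : K') ≠ 0 := by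
  intro h0
  have hp : (ringChar F').Prime := by
    obtain ⟨n, hp, -⟩ := FiniteField.card F' (ringChar F')
    exact hp
  rcases (Nat.dvd_prime hp).mp (ringChar.dvd h0) with h1 | h1
  · exact CharP.ringChar_ne_one h1
  · exact h h1

end CfsgLib.CharBound
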