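import Cfsg.Agent.Lib.CharBound.Basic

set_option autoImplicit false

/-!
The dimension bound from eigenspaces for distinct eigencharacters together with the common fixed space of
members at which all these characters are non-trivial.
-/

namespace CfsgLib.CharBound

open Module

variable {K V : Type*} [Field K] [AddCommGroup V] [Module K V]

theorem finrank_add_card_mul_le [FiniteDimensional K V] {A ι : Type*} [Fintype ι] (f : A → V →ₗ[K] V)
    (χ : ι → A → K) (hχ : Function.Injective χ) (P C : Submodule K V) (W : ι → Submodule K V)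
    (hCP : C ≤ P) (hWP : ∀ i, W i ≤ P) (hW : ∀ i, ∀ v ∈ W i, ∀ a, f a v = χ i a • v)
    (hC : ∀ i, ∃ a, χ i a ≠ 1 ∧ ∀ v ∈ C, f a v = v) {d : ℕ} (hd : ∀ i, d ≤ finrank K (W i)) :
    finrank K C + Fintype.card ι * d ≤ finrank K P := by
  classical
  let S : (C × (∀ i, W i)) →ₗ[K] V :=
    C.subtype.coprod (∑ i, (W i).subtype.comp (LinearMap.proj i))
  have hS : ∀ x, S x = (x.1 : V) + ∑ i, (x.2 i : V) := fun x => by simp [S]
  have hinj : Function.Injective S := by
    refine LinearMap.ker_eq_bot.mp (LinearMap.ker_eq_bot'.mpr fun x hx => ?_)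
    rw [hS] at hx
    have hzero : ∀ i, (x.2 i : V) = 0 := by
      intro i
      obtain ⟨a, ha, haC⟩ := hC i
      have h1 := eq_zero_of_sum_eigen f χ hχ Finset.univ (fun j => (χ j a - 1) • (x.2 j : V))
        (fun j _ b => by rw [map_smul, hW j _ (x.2 j).2 b, smul_comm]) ?_ i (Finset.mem_univ i)
      · exact (smul_eq_zero.mp h1).resolve_left (sub_ne_zero.mpr ha)
      · have h2 := congrArg (f a) hx
        rw [map_add, map_sum, map_zero, haC _ x.1.2,
          Finset.sum_congr rfl fun j _ => hW j _ (x.2 j).2 a] at h2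
        simp only [sub_smul, one_smul, Finset.sum_sub_distrib]
        rw [sub_eq_zero]
        exact add_left_cancel (h2.trans hx.symm)
    refine Prod.ext (Subtype.ext ?_) (funext fun i => Subtype.ext (hzero i))
    simpa [hzero] using hx
  have hrange : LinearMap.range S ≤ P := by
    rintro _ ⟨x, rfl⟩
    rw [hS]
    exact add_mem (hCP x.1.2) (Submodule.sum_mem _ fun i _ => hWP i (x.2 i).2)
  have h1 := (LinearMap.finrank_range_of_inj hinj).symm.trans_le (Submodule.finrank_mono hrange)
  rw [finrank_prod, finrank_pi_fintype] at h1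
  refine le_trans ?_ h1
  gcongr
  simpa using Finset.card_nsmul_le_sum Finset.univ (fun i => finrank K (W i)) d (fun i _ => hd i)

/-- One eigenvector for each character. -/
theorem finrank_add_card_le [FiniteDimensional K V] {A ι : Type*} [Fintype ι] (f : A → V →ₗ[K] V)
    (χ : ι → A → K) (hχ : Function.Injective χ) (P C : Submodule K V) (v : ι → V)
    (hCP : C ≤ P) (hvP : ∀ i, v i ∈ P) (hv0 : ∀ i, v i ≠ 0) (hv : ∀ i a, f a (v i) = χ i a • v i)
    (hC : ∀ i, ∃ a, χ i a ≠ 1 ∧ ∀ w ∈ C, f a w = w) :
    finrank K C + Fintype.card ι ≤ finrank K P := by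
  have := finrank_add_card_mul_le f χ hχ P C (fun i => K ∙ v i) hCP
    (fun i => (Submodule.span_singleton_le_iff_mem _ _).mpr (hvP i))
    (fun i x hx a => by
      obtain ⟨c, rfl⟩ := Submodule.mem_span_singleton.mp hx
      rw [map_smul, hv, smul_comm]) hC (d := 1)
    (fun i => by rw [finrank_span_singleton (hv0 i)])
  simpa using this

end CfsgLib.CharBound
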