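import Cfsg.Agent.Lib.CharBound.Basic
import Cfsg.Agent.Lib.Characters.Basic

set_option autoImplicit false

/-! An irreducible representation with commuting image is one dimensional. -/

namespace CfsgLib.CharBound

theorem finrank_eq_one_of_commute {G V : Type*} [Group G] [AddCommGroup V] [Module ℂ V]
    [FiniteDimensional ℂ V] (ρ : Representation ℂ G V) (hρ : ρ.IsIrreducible)
    (hc : ∀ g h, Commute (ρ g) (ρ h)) : Module.finrank ℂ V = 1 := by
  obtain ⟨hnt, hmin⟩ := (CfsgLib.Characters.isIrreducible_iff ρ).mp hρ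
  obtain ⟨v, χ, hv0, -, hv⟩ := exists_common_eigen (fun g => ρ g) hc (⊤ : Submodule ℂ V) top_ne_bot
    (fun _ _ _ => trivial)
  rcases hmin (ℂ ∙ v) (fun g x hx => by
      obtain ⟨c, rfl⟩ := Submodule.mem_span_singleton.mp hx
      rw [map_smul, hv g, smul_comm]
      exact Submodule.smul_mem _ _ (Submodule.smul_mem _ c (Submodule.mem_span_singleton_self v))) with h | h
  · simp [hv0] at h
  · rw [← finrank_top, ← h, finrank_span_singleton hv0]

theorem finrank_eq_one_of_trivial {G V : Type*} [Group G] [AddCommGroup V] [Module ℂ V]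
    [FiniteDimensional ℂ V] (ρ : Representation ℂ G V) (hρ : ρ.IsIrreducible)
    (h : ∀ g, ρ g = 1) : Module.finrank ℂ V = 1 :=
  finrank_eq_one_of_commute ρ hρ fun g g' => by rw [h g, h g']

end CfsgLib.CharBound
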