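import Cfsg.Agent.Lib.CharBound.Cross

set_option autoImplicit false

/-! The bound `q ^ (n - 1) - 1` for representations of `SL_n(q)` in cross characteristic. -/

namespace CfsgLib.CharBound

open Matrix
open scoped MatrixGroups

variable {F : Type*} [Field F]

/-- The row transvection group inside `SL_(1+m)`, for the index type `Unit ⊕ Fin m`. -/
def rowUni (m : ℕ) : Multiplicative (Fin m → F) →* Matrix.SpecialLinearGroup (Unit ⊕ Fin m) F where
  toFun v := ⟨fromBlocks 1 (Matrix.replicateRow Unit (Multiplicative.toAdd v)) 0 1, by simp⟩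
  map_one' := Subtype.ext (by
    change fromBlocks 1 (Matrix.replicateRow Unit (0 : Fin m → F)) 0 1 = _
    rw [show Matrix.replicateRow Unit (0 : Fin m → F) = 0 from rfl, fromBlocks_one]
    rfl)
  map_mul' v w := Subtype.ext (by
    change fromBlocks _ _ _ _ = fromBlocks _ _ _ _ * fromBlocks _ _ _ _
    rw [fromBlocks_multiply]
    congr 1 <;> simp [toAdd_mul, Matrix.replicateRow_add, add_comm])

/-- `SL_m` inside `SL_(1+m)`. -/
def lowBlock (m : ℕ) : Matrix.SpecialLinearGroup (Fin m) F →* Matrix.SpecialLinearGroup (Unit ⊕ Fin m) F where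
  toFun M := ⟨fromBlocks 1 0 0 (M : Matrix (Fin m) (Fin m) F), by simp⟩
  map_one' := Subtype.ext (by simp [fromBlocks_one])
  map_mul' a b := Subtype.ext (by
    change fromBlocks _ _ _ _ = fromBlocks _ _ _ _ * fromBlocks _ _ _ _
    rw [fromBlocks_multiply]
    simp)

theorem lowBlock_conj (m : ℕ) (M : Matrix.SpecialLinearGroup (Fin m) F) (v : Fin m → F) :
    lowBlock m M * rowUni m (.ofAdd v) =
      rowUni m (.ofAdd (v ᵥ* ((M⁻¹ : Matrix.SpecialLinearGroup (Fin m) F) : Matrix (Fin m) (Fin m) F))) *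
        lowBlock m M := by
  refine Subtype.ext ?_
  change fromBlocks _ _ _ _ * fromBlocks _ _ _ _ = fromBlocks _ _ _ _ * fromBlocks _ _ _ _
  rw [fromBlocks_multiply, fromBlocks_multiply]
  congr 1 <;> simp
  rw [← Matrix.replicateRow_vecMul]
  congr 1
  rw [Matrix.vecMul_vecMul, ← Matrix.SpecialLinearGroup.coe_inv, ← Matrix.SpecialLinearGroup.coe_mul,
    inv_mul_cancel, Matrix.SpecialLinearGroup.coe_one, Matrix.vecMul_one]

theorem exists_sl_mulVec_eq {m : ℕ} (hm : 2 ≤ m) {u : Fin m → F} (hu : u ≠ 0) :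
    ∃ P : Matrix.SpecialLinearGroup (Fin m) F, (P : Matrix (Fin m) (Fin m) F) *ᵥ Pi.single ⟨0, by omega⟩ 1 = u := by
  classical
  obtain ⟨j, hj⟩ := Function.ne_iff.mp hu
  simp only [Pi.zero_apply] at hj
  let z : Fin m := ⟨0, by omega⟩
  -- the identity with column `j` replaced by `u`
  let A : Matrix (Fin m) (Fin m) F := (1 : Matrix (Fin m) (Fin m) F).updateCol j u
  have hA : A.det = u j := by
    have := Matrix.cramer_apply (1 : Matrix (Fin m) (Fin m) F) u j
    rw [Matrix.cramer_one] at this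
    exact this.symm
  obtain ⟨k, hk⟩ : ∃ k, k ≠ z := ⟨⟨1, by omega⟩, by simp [z]⟩
  let σ := Equiv.swap z j
  let B : Matrix (Fin m) (Fin m) F := A.submatrix id σ
  let s : F := (Equiv.Perm.sign σ : ℤ)
  have hs : s * s = 1 := by
    simp only [s]; rw [← Int.cast_mul, ← Units.val_mul, Int.units_mul_self]; simp
  have hB : B.det = s * u j := by
    rw [show B = A.submatrix id σ from rfl, Matrix.det_permute', hA]
  let D : Matrix (Fin m) (Fin m) F := Matrix.diagonal fun i => if i = k then s / u j else 1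
  refine ⟨⟨B * D, ?_⟩, ?_⟩
  · rw [Matrix.det_mul, hB, Matrix.det_diagonal, Finset.prod_ite_eq' Finset.univ k (fun _ => s / u j)]
    simp only [Finset.mem_univ, if_true]
    field_simp
    linear_combination hs
  · funext i
    change ((B * D) *ᵥ Pi.single z 1) i = u i
    rw [Matrix.mulVec_single_one, Matrix.col_apply, Matrix.mul_diagonal, if_neg (Ne.symm hk), mul_one]
    simp [B, σ, A, Matrix.updateCol_apply]

variable [Fintype F]

theorem sl_cross_char_bound {n : ℕ} (hn : 3 ≤ n) {K : Type*} [Field K] (hK : ringChar K ≠ ringChar F)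
    {d : ℕ} (ρ : Matrix.SpecialLinearGroup (Fin n) F →* GL (Fin d) K)
    (hker : ρ.ker ≤ Subgroup.center (Matrix.SpecialLinearGroup (Fin n) F)) :
    Fintype.card F ^ (n - 1) - 1 ≤ d := by
  classical
  obtain ⟨m, rfl⟩ : ∃ m, n = 1 + m := ⟨n - 1, by omega⟩
  rw [Nat.add_sub_cancel_left]
  haveI : Fact (ringChar F).Prime := by
    obtain ⟨k, hp, -⟩ := FiniteField.card F (ringChar F)
    exact ⟨hp⟩
  let e : Fin (1 + m) ≃ Unit ⊕ Fin m := finSumFinEquiv.symm.trans (Equiv.sumCongr (Equiv.ofUnique _ _) (Equiv.refl _))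
  let φ : Matrix.SpecialLinearGroup (Unit ⊕ Fin m) F →* Matrix.SpecialLinearGroup (Fin (1 + m)) F :=
    { toFun := fun g => ⟨(g : Matrix (Unit ⊕ Fin m) (Unit ⊕ Fin m) F).submatrix e e, by
        rw [Matrix.det_submatrix_equiv_self]; exact g.det_coe⟩
      map_one' := Subtype.ext (by simp [Matrix.submatrix_one_equiv])
      map_mul' := fun a b => Subtype.ext (by
        change _ = Matrix.submatrix _ _ _ * Matrix.submatrix _ _ _
        rw [Matrix.submatrix_mul_equiv]; rfl) }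
  have hne : ρ (φ (rowUni m (.ofAdd (Pi.single ⟨0, by omega⟩ 1)))) ≠ 1 := by
    intro h
    obtain ⟨r, -, hr⟩ := Matrix.SpecialLinearGroup.mem_center_iff.mp (hker h)
    have := congrFun (congrFun hr (e.symm (Sum.inl ()))) (e.symm (Sum.inr ⟨0, by omega⟩))
    change _ = (fromBlocks 1 (Matrix.replicateRow Unit
      (Multiplicative.toAdd (Multiplicative.ofAdd (Pi.single (⟨0, by omega⟩ : Fin m) (1 : F))))) 0 1)
      (e (e.symm (Sum.inl ()))) (e (e.symm (Sum.inr ⟨0, by omega⟩))) at this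
    simp at this
  obtain ⟨L, _, χ, hχa, hbound⟩ := exists_char_orbit_bound (F := F) (p := ringChar F)
    (natCast_ne_zero_of_ringChar_ne hK) ρ (φ.comp (rowUni m)) _ hne
  obtain ⟨v₀, hv₀⟩ : ∃ v, χ v ≠ 1 := ⟨_, hχa⟩
  let lam : AddChar F L := χ.compAddMonoidHom
    (AddMonoidHom.mk' (fun c => c • v₀) (fun a b => add_smul a b v₀))
  have hlam : ∃ c, lam c ≠ 1 := ⟨1, by simpa [lam] using hv₀⟩
  obtain ⟨u, hu⟩ := exists_eq_dotProduct lam hlam χ
  have hu0 : u ≠ 0 := fun h => hv₀ (by rw [hu, h, zero_dotProduct, AddChar.map_zero_eq_one])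
  obtain ⟨P₀, hP₀⟩ := exists_sl_mulVec_eq (by omega : 2 ≤ m) hu0
  have hall : ∀ i : {x : Fin m → F // x ≠ 0}, ∃ M : Matrix.SpecialLinearGroup (Fin m) F,
      ((M⁻¹ : Matrix.SpecialLinearGroup (Fin m) F) : Matrix (Fin m) (Fin m) F) *ᵥ u = i.1 := by
    intro i
    obtain ⟨P, hP⟩ := exists_sl_mulVec_eq (by omega : 2 ≤ m) i.2
    refine ⟨P₀ * P⁻¹, ?_⟩
    rw [_root_.mul_inv_rev, inv_inv, Matrix.SpecialLinearGroup.coe_mul, ← hP₀, ← hP, Matrix.mulVec_mulVec,
      Matrix.mul_assoc, ← Matrix.SpecialLinearGroup.coe_mul P₀⁻¹, inv_mul_cancel,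
      Matrix.SpecialLinearGroup.coe_one, Matrix.mul_one]
  choose M hM using hall
  have hinj : Function.Injective fun (i : {x : Fin m → F // x ≠ 0}) (v : Fin m → F) =>
      χ (v ᵥ* (((M i)⁻¹ : Matrix.SpecialLinearGroup (Fin m) F) : Matrix (Fin m) (Fin m) F)) := by
    intro i j h
    refine Subtype.ext (dotProduct_eq _ _ fun v => ?_)
    obtain ⟨c, hc⟩ := hlam
    by_contra hne'
    have h1 := congrFun h ((c / (i.1 ⬝ᵥ v - j.1 ⬝ᵥ v)) • v)
    simp only [hu] at h1
    rw [dotProduct_comm u, dotProduct_comm u, ← dotProduct_mulVec, ← dotProduct_mulVec, hM, hM,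
      smul_dotProduct, smul_dotProduct, dotProduct_comm v, dotProduct_comm v, smul_eq_mul, smul_eq_mul] at h1
    apply hc
    have hd : i.1 ⬝ᵥ v - j.1 ⬝ᵥ v ≠ 0 := sub_ne_zero.mpr hne'
    calc lam c = lam (c / (i.1 ⬝ᵥ v - j.1 ⬝ᵥ v) * i.1 ⬝ᵥ v - c / (i.1 ⬝ᵥ v - j.1 ⬝ᵥ v) * j.1 ⬝ᵥ v) := by
          rw [← mul_sub, div_mul_cancel₀ _ hd]
      _ = 1 := by
          rw [AddChar.map_sub_eq_div, h1]
          exact div_self (AddChar.val_isUnit lam _).ne_zero
  have := hbound (fun i => φ (lowBlock m (M i))) _ (fun i v => by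
    rw [MonoidHom.comp_apply, MonoidHom.comp_apply, ← map_mul, ← map_mul, lowBlock_conj]) hinj
  rw [Fintype.card_subtype_compl, Fintype.card_subtype_eq, Fintype.card_fun, Fintype.card_fin] at this
  exact this

end CfsgLib.CharBound
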