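import Mathlib
import Cfsg.Agent.Lib.Characters.Generalized
import Cfsg.Agent.Lib.Characters.Induction

set_option autoImplicit false

/-! The permutation character of `SL_n(q)` on non-zero vectors: `1` plus `q - 1` distinct irreducibles. -/

namespace CfsgLib.SLWeilPerm

open Matrix
open scoped ComplexConjugate LinearAlgebra.Projectivization

theorem fibre_card {G S : Type*} [Group G] [Finite G] [Finite S] (act : G → S → S)
    (hmul : ∀ g h p, act (g * h) p = act g (act h p)) (hinj : ∀ g, Function.Injective (act g))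
    (htrans : ∀ p p', ∃ g, act g p = p') (p p' : S) :
    Nat.card {g : G // act g p = p'} * Nat.card S = Nat.card G := by
  have := Fintype.ofFinite S
  have e : ∀ p'', Nat.card {g : G // act g p = p''} = Nat.card {g : G // act g p = p'} := fun p'' => by
    obtain ⟨k, hk⟩ := htrans p' p''
    refine (Nat.card_congr ((Equiv.mulLeft k).subtypeEquiv fun g => ⟨fun h => ?_, fun h => ?_⟩)).symm
    · show act (k * g) p = p''
      rw [hmul, h, hk]
    · exact hinj k ((hmul k g p).symm.trans (h.trans hk.symm))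
  have h1 := Nat.card_congr (Equiv.sigmaFiberEquiv fun g : G => act g p)
  rw [Nat.card_sigma, Finset.sum_congr rfl fun p'' _ => e p'', Finset.sum_const, Finset.card_univ,
    ← Nat.card_eq_fintype_card, smul_eq_mul, mul_comm] at h1
  exact h1

variable {F : Type*} [Field F] {n : ℕ}

local notation "V" => (Fin n → F)
local notation "SLn" => Matrix.SpecialLinearGroup (Fin n) F

theorem mulVec_inj (g : Matrix.SpecialLinearGroup (Fin n) F) :
    Function.Injective fun v : Fin n → F => g.1 *ᵥ v := fun v w h => by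
  have h' := congrArg (fun z => (g⁻¹).1 *ᵥ z) h
  simp only [mulVec_mulVec, ← Matrix.SpecialLinearGroup.coe_mul, inv_mul_cancel,
    Matrix.SpecialLinearGroup.coe_one, one_mulVec] at h'
  exact h'

theorem mulVec_ne_zero (g : Matrix.SpecialLinearGroup (Fin n) F) {v : Fin n → F} (hv : v ≠ 0) : g.1 *ᵥ v ≠ 0 :=
  fun h => hv (mulVec_inj g (h.trans (mulVec_zero _).symm))

theorem sumExtend_inl {ι K W : Type*} [Field K] [AddCommGroup W] [Module K W] {v : ι → W}
    (hs : LinearIndependent K v) (i : ι) : Module.Basis.sumExtend hs (Sum.inl i) = v i := by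
  simp [Module.Basis.sumExtend]
  rfl

/-- `SL_n` is transitive on independent pairs. -/
theorem exists_map_pair (hn : 3 ≤ n) {v w v' w' : Fin n → F} (h : LinearIndependent F ![v, w])
    (h' : LinearIndependent F ![v', w']) :
    ∃ g : Matrix.SpecialLinearGroup (Fin n) F, g.1 *ᵥ v = v' ∧ g.1 *ᵥ w = w' := by
  classical
  let b := Module.Basis.sumExtend h
  let b' := Module.Basis.sumExtend h'
  haveI := FiniteDimensional.fintypeBasisIndex b
  haveI := FiniteDimensional.fintypeBasisIndex b'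
  have hb := Module.finrank_eq_card_basis b
  have hb' := Module.finrank_eq_card_basis b'
  rw [Module.finrank_fin_fun] at hb hb'
  have hbv : ∀ i, b (Sum.inl i) = ![v, w] i := fun i => sumExtend_inl h i
  have hbv' : ∀ i, b' (Sum.inl i) = ![v', w'] i := fun i => sumExtend_inl h' i
  haveI := Fintype.ofInjective (Sum.inr : _ → Fin 2 ⊕ (Module.Basis.sumExtendIndex h)) Sum.inr_injective
  haveI := Fintype.ofInjective (Sum.inr : _ → Fin 2 ⊕ (Module.Basis.sumExtendIndex h')) Sum.inr_injective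
  have hcardeq : Fintype.card (Module.Basis.sumExtendIndex h) = Fintype.card (Module.Basis.sumExtendIndex h') ∧
      0 < Fintype.card (Module.Basis.sumExtendIndex h) := by
    simp only [← Nat.card_eq_fintype_card, Nat.card_sum, Nat.card_fin] at hb hb' ⊢
    omega
  let σ := Equiv.sumCongr (Equiv.refl (Fin 2)) (Fintype.equivOfCardEq hcardeq.1)
  let f := b.equiv b' σ
  set δ := LinearMap.det f.toLinearMap with hδ
  have hδ0 : δ ≠ 0 := (LinearEquiv.isUnit_det' f).ne_zero
  obtain ⟨k⟩ := Fintype.card_pos_iff.1 hcardeq.2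
  let D : (Fin n → F) →ₗ[F] Fin n → F :=
    Matrix.toLin b b (Matrix.diagonal (Function.update 1 (Sum.inr k) δ⁻¹))
  have hD : ∀ i, D (b (Sum.inl i)) = b (Sum.inl i) := fun i => by
    rw [Matrix.toLin_self, Finset.sum_eq_single (Sum.inl i) (fun j _ hj => by
      rw [Matrix.diagonal_apply_ne _ hj, zero_smul]) (fun hh => absurd (Finset.mem_univ _) hh)]
    simp
  have hDdet : LinearMap.det D = δ⁻¹ := by
    rw [← LinearMap.det_toMatrix b, LinearMap.toMatrix_toLin, Matrix.det_diagonal,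
      Finset.prod_update_of_mem (Finset.mem_univ _)]
    simp
  refine ⟨⟨LinearMap.toMatrix' (f.toLinearMap ∘ₗ D), ?_⟩, ?_, ?_⟩
  · rw [LinearMap.det_toMatrix', LinearMap.det_comp, hDdet, ← hδ, mul_inv_cancel₀ hδ0]
  · show LinearMap.toMatrix' _ *ᵥ v = v'
    rw [LinearMap.toMatrix'_mulVec, show v = b (Sum.inl 0) from (hbv 0).symm, LinearMap.comp_apply, hD,
      LinearEquiv.coe_coe, Module.Basis.equiv_apply]
    exact hbv' 0
  · show LinearMap.toMatrix' _ *ᵥ w = w'
    rw [LinearMap.toMatrix'_mulVec, show w = b (Sum.inl 1) from (hbv 1).symm, LinearMap.comp_apply, hD,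
      LinearEquiv.coe_coe, Module.Basis.equiv_apply]
    exact hbv' 1

theorem pair_indep {v w : Fin n → F} (hv : v ≠ 0) (hw : w ≠ 0) (h : ¬ ∃ c : Fˣ, w = (c : F) • v) :
    LinearIndependent F ![v, w] := by
  rw [LinearIndependent.pair_iff' hv]
  intro c hc
  exact h ⟨Units.mk0 c (fun hc0 => hw (by rw [← hc, hc0, zero_smul])), hc.symm⟩

theorem exists_map_one (hn : 3 ≤ n) {v v' : Fin n → F} (hv : v ≠ 0) (hv' : v' ≠ 0) :
    ∃ g : Matrix.SpecialLinearGroup (Fin n) F, g.1 *ᵥ v = v' := by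
  have key : ∀ u : Fin n → F, u ≠ 0 → ∃ w, LinearIndependent F ![u, w] := by
    intro u hu
    obtain ⟨w, -, hw⟩ := SetLike.exists_of_lt (show Submodule.span F {u} < ⊤ from
      lt_top_iff_ne_top.2 fun h => by
        have := finrank_span_singleton (K := F) hu
        rw [h, finrank_top, Module.finrank_fin_fun] at this
        omega)
    refine ⟨w, pair_indep hu (fun h => hw (h ▸ zero_mem _)) ?_⟩
    rintro ⟨c, rfl⟩
    exact hw (Submodule.smul_mem _ _ (Submodule.mem_span_singleton_self _))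
  obtain ⟨w, hw⟩ := key v hv
  obtain ⟨w', hw'⟩ := key v' hv'
  obtain ⟨g, hg, -⟩ := exists_map_pair hn hw hw'
  exact ⟨g, hg⟩

/-- The non-zero vectors with eigenvalue `a`. -/
noncomputable def eigVecs (a : Fˣ) (g : Matrix.SpecialLinearGroup (Fin n) F) : ℕ :=
  Nat.card {v : Fin n → F // v ≠ 0 ∧ g.1 *ᵥ v = (a : F) • v}

/-- The lines with eigenvalue `a`. -/
noncomputable def eigLines (a : Fˣ) (g : Matrix.SpecialLinearGroup (Fin n) F) : ℕ :=
  Nat.card {x : ℙ F (Fin n → F) // g.1 *ᵥ x.rep = (a : F) • x.rep}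

theorem eq_of_smul_rep {x y : ℙ F (Fin n → F)} {a b : Fˣ} (h : (a : F) • x.rep = (b : F) • y.rep) :
    x = y ∧ a = b := by
  have hxy : x = y := by
    rw [← x.mk_rep, ← y.mk_rep]
    refine (Projectivization.mk_eq_mk_iff F _ _ _ _).2 ⟨a⁻¹ * b, ?_⟩
    rw [mul_smul, Units.smul_def, Units.smul_def, ← h, smul_smul, Units.inv_mul, one_smul]
  subst hxy
  exact ⟨rfl, Units.ext (smul_left_injective F x.rep_nonzero h)⟩

theorem exists_smul_rep {v : Fin n → F} (hv : v ≠ 0) : ∃ (x : ℙ F (Fin n → F)) (c : Fˣ), v = (c : F) • x.rep := by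
  obtain ⟨a, ha⟩ := Projectivization.exists_smul_eq_mk_rep F v hv
  refine ⟨Projectivization.mk F v hv, a⁻¹, ?_⟩
  rw [← ha, Units.smul_def, smul_smul, Units.inv_mul, one_smul]

variable [Fintype F]

theorem eigVecs_eq (a : Fˣ) (g : Matrix.SpecialLinearGroup (Fin n) F) :
    eigVecs a g = eigLines a g * Nat.card Fˣ := by
  rw [eigLines, ← Nat.card_prod]
  refine (Nat.card_eq_of_bijective (fun p => ⟨(p.2 : F) • p.1.1.rep,
    smul_ne_zero p.2.ne_zero p.1.1.rep_nonzero, by rw [mulVec_smul, p.1.2, smul_comm]⟩) ⟨?_, ?_⟩).symm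
  · rintro ⟨⟨x, hx⟩, c⟩ ⟨⟨y, hy⟩, d⟩ h
    obtain ⟨rfl, rfl⟩ := eq_of_smul_rep (congrArg Subtype.val h)
    rfl
  · rintro ⟨v, hv, hgv⟩
    obtain ⟨x, c, rfl⟩ := exists_smul_rep hv
    refine ⟨⟨⟨x, ?_⟩, c⟩, rfl⟩
    rw [mulVec_smul, smul_comm] at hgv
    exact smul_right_injective _ c.ne_zero hgv

variable [DecidableEq F]

theorem sum_eigVecs (hn : 3 ≤ n) (a : Fˣ) :
    ∑ g : Matrix.SpecialLinearGroup (Fin n) F, eigVecs a g = Nat.card (Matrix.SpecialLinearGroup (Fin n) F) := by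
  classical
  let S := {v : Fin n → F // v ≠ 0}
  let act : SLn → S → S := fun g v => ⟨g.1 *ᵥ v.1, mulVec_ne_zero g v.2⟩
  have hfib := fibre_card act (fun g h p => Subtype.ext (by simp [act, mulVec_mulVec]))
    (fun g v w h => Subtype.ext (mulVec_inj g (congrArg Subtype.val h)))
    (fun p p' => by obtain ⟨g, hg⟩ := exists_map_one hn p.2 p'.2; exact ⟨g, Subtype.ext hg⟩)
  let tgt : S → S := fun v => ⟨(a : F) • v.1, smul_ne_zero a.ne_zero v.2⟩
  have e : (Σ g : SLn, {v : Fin n → F // v ≠ 0 ∧ g.1 *ᵥ v = (a : F) • v}) ≃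
      Σ v : S, {g : SLn // act g v = tgt v} :=
    { toFun := fun p => ⟨⟨p.2.1, p.2.2.1⟩, p.1, Subtype.ext p.2.2.2⟩
      invFun := fun p => ⟨p.2.1, p.1.1, p.1.2, congrArg Subtype.val p.2.2⟩
      left_inv := fun _ => rfl
      right_inv := fun _ => rfl }
  have h1 := Nat.card_congr e
  rw [Nat.card_sigma, Nat.card_sigma] at h1
  simp only [eigVecs]
  rw [h1]
  obtain ⟨v₀⟩ : Nonempty S := ⟨⟨Pi.single ⟨0, by omega⟩ 1, by simp⟩⟩
  have hS : Nat.card S ≠ 0 := (Nat.card_pos_iff.2 ⟨⟨v₀⟩, inferInstance⟩).ne'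
  apply Nat.eq_of_mul_eq_mul_right (Nat.pos_of_ne_zero hS)
  rw [Finset.sum_mul, Finset.sum_congr rfl fun v _ => hfib v (tgt v), Finset.sum_const, Finset.card_univ,
    smul_eq_mul, ← Nat.card_eq_fintype_card, mul_comm]

theorem sum_eigVecs_mul (hn : 3 ≤ n) (a b : Fˣ) :
    ∑ g : Matrix.SpecialLinearGroup (Fin n) F, eigVecs a g * eigVecs b g =
      Nat.card (Matrix.SpecialLinearGroup (Fin n) F) * (1 + if a = b then Nat.card Fˣ else 0) := by
  classical
  let T := Σ g : SLn, {v : Fin n → F // v ≠ 0 ∧ g.1 *ᵥ v = (a : F) • v} ×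
    {v : Fin n → F // v ≠ 0 ∧ g.1 *ᵥ v = (b : F) • v}
  let dep : T → Prop := fun t => ∃ c : Fˣ, t.2.2.1 = (c : F) • t.2.1.1
  have hT : Nat.card T = ∑ g : SLn, eigVecs a g * eigVecs b g := by
    simp only [T, eigVecs, Nat.card_sigma, Nat.card_prod]
  rw [← hT, ← Nat.card_congr (Equiv.sumCompl dep), Nat.card_sum, add_comm, mul_add, mul_one]
  congr 1
  · let S := {p : (Fin n → F) × (Fin n → F) // p.1 ≠ 0 ∧ p.2 ≠ 0 ∧ ¬ ∃ c : Fˣ, p.2 = (c : F) • p.1}
    let act : SLn → S → S := fun g p => ⟨(g.1 *ᵥ p.1.1, g.1 *ᵥ p.1.2), mulVec_ne_zero g p.2.1,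
      mulVec_ne_zero g p.2.2.1, fun ⟨c, hc⟩ => p.2.2.2 ⟨c, mulVec_inj g (show g.1 *ᵥ p.1.2 = g.1 *ᵥ ((c : F) • p.1.1) by
        rw [mulVec_smul]; exact hc)⟩⟩
    have hfib := fibre_card act (fun g h p => Subtype.ext (by simp [act, mulVec_mulVec]))
      (fun g v w h => by
        have h' := congrArg Subtype.val h
        exact Subtype.ext (Prod.ext (mulVec_inj g (congrArg Prod.fst h')) (mulVec_inj g (congrArg Prod.snd h'))))
      (fun p p' => by
        obtain ⟨g, h1, h2⟩ := exists_map_pair hn (pair_indep p.2.1 p.2.2.1 p.2.2.2)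
          (pair_indep p'.2.1 p'.2.2.1 p'.2.2.2)
        exact ⟨g, Subtype.ext (Prod.ext h1 h2)⟩)
    let tgt : S → S := fun p => ⟨((a : F) • p.1.1, (b : F) • p.1.2), smul_ne_zero a.ne_zero p.2.1,
      smul_ne_zero b.ne_zero p.2.2.1, fun ⟨c, hc⟩ => p.2.2.2 ⟨b⁻¹ * (c * a), by
        calc p.1.2 = ((b⁻¹ : Fˣ) : F) • ((b : F) • p.1.2) := by rw [smul_smul, Units.inv_mul, one_smul]
          _ = _ := by
            show ((b⁻¹ : Fˣ) : F) • ((b : F) • p.1.2) = _
            rw [show (b : F) • p.1.2 = (c : F) • ((a : F) • p.1.1) from hc, smul_smul, smul_smul, Units.val_mul,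
              Units.val_mul, mul_assoc]⟩⟩
    have e : {t : T // ¬ dep t} ≃ Σ p : S, {g : SLn // act g p = tgt p} :=
      { toFun := fun t => ⟨⟨(t.1.2.1.1, t.1.2.2.1), t.1.2.1.2.1, t.1.2.2.2.1, t.2⟩, t.1.1,
          Subtype.ext (Prod.ext t.1.2.1.2.2 t.1.2.2.2.2)⟩
        invFun := fun p => ⟨⟨p.2.1, ⟨p.1.1.1, p.1.2.1, congrArg (fun s : S => s.1.1) p.2.2⟩,
          ⟨p.1.1.2, p.1.2.2.1, congrArg (fun s : S => s.1.2) p.2.2⟩⟩, p.1.2.2.2⟩
        left_inv := fun _ => rfl
        right_inv := fun _ => rfl }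
    rw [Nat.card_congr e, Nat.card_sigma]
    obtain ⟨p₀⟩ : Nonempty S := by
      refine ⟨⟨(Pi.single ⟨0, by omega⟩ 1, Pi.single ⟨1, by omega⟩ 1), by simp, by simp, ?_⟩⟩
      rintro ⟨c, hc⟩
      have := congrFun hc ⟨1, by omega⟩
      simp [Pi.single_apply, Fin.ext_iff] at this
    have hS : Nat.card S ≠ 0 := (Nat.card_pos_iff.2 ⟨⟨p₀⟩, inferInstance⟩).ne'
    apply Nat.eq_of_mul_eq_mul_right (Nat.pos_of_ne_zero hS)
    rw [Finset.sum_mul, Finset.sum_congr rfl fun v _ => hfib v (tgt v), Finset.sum_const, Finset.card_univ,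
      smul_eq_mul, ← Nat.card_eq_fintype_card, mul_comm]
  · split_ifs with hab
    · subst hab
      rw [← sum_eigVecs hn a, show (∑ g : SLn, eigVecs a g) * Nat.card Fˣ =
        Nat.card ((Σ g : SLn, {v : Fin n → F // v ≠ 0 ∧ g.1 *ᵥ v = (a : F) • v}) × Fˣ) by
          rw [Nat.card_prod, Nat.card_sigma]; rfl]
      refine (Nat.card_eq_of_bijective (fun p => (⟨⟨p.1.1, p.1.2, ⟨(p.2 : F) • p.1.2.1,
        smul_ne_zero p.2.ne_zero p.1.2.2.1, by rw [mulVec_smul, p.1.2.2.2, smul_comm]⟩⟩, p.2, rfl⟩ : {t : T // dep t}))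
        ⟨?_, ?_⟩).symm
      · rintro ⟨⟨g, v, hv, hgv⟩, c⟩ ⟨⟨g', v', hv', hgv'⟩, c'⟩ h
        simp only [Subtype.mk.injEq, T, Sigma.mk.injEq] at h
        obtain ⟨rfl, h⟩ := h
        simp only [heq_eq_eq, Prod.mk.injEq, Subtype.mk.injEq] at h
        obtain ⟨rfl, h⟩ := h
        obtain rfl : c = c' := Units.ext (smul_left_injective F hv h)
        rfl
      · rintro ⟨⟨g, ⟨v, hv, hgv⟩, ⟨w, hw, hgw⟩⟩, c, hc⟩
        change w = (c : F) • v at hc
        subst hc
        exact ⟨⟨⟨g, v, hv, hgv⟩, c⟩, rfl⟩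
    · rw [mul_zero, Nat.card_eq_zero]
      refine Or.inl ⟨?_⟩
      rintro ⟨⟨g, ⟨v, hv, hgv⟩, ⟨w, hw, hgw⟩⟩, c, hc⟩
      change w = (c : F) • v at hc
      subst hc
      rw [mulVec_smul, hgv, smul_comm] at hgw
      exact hab (Units.ext (smul_left_injective F (smul_ne_zero c.ne_zero hv) hgw))

/-- The character attached to a character of `Fˣ`. -/
noncomputable def psi (l : Fˣ →* ℂˣ) (g : Matrix.SpecialLinearGroup (Fin n) F) : ℂ :=
  ∑ a : Fˣ, (l a : ℂ) * eigLines a g

set_option maxHeartbeats 800000 in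
theorem isCharacter_psi (l : Fˣ →* ℂˣ) : Cfsg.IsCharacter (Matrix.SpecialLinearGroup (Fin n) F) (psi l) := by
  classical
  have := Fintype.ofFinite (ℙ F (Fin n → F))
  let M : SLn → Matrix (ℙ F (Fin n → F)) (ℙ F (Fin n → F)) ℂ := fun g => Matrix.of fun x y =>
    ∑ a : Fˣ, if g.1 *ᵥ y.rep = (a : F) • x.rep then (l a : ℂ) else 0
  let R : SLn →* Matrix (ℙ F (Fin n → F)) (ℙ F (Fin n → F)) ℂ :=
    { toFun := M
      map_one' := by
        ext x y
        simp only [M, Matrix.of_apply, Matrix.SpecialLinearGroup.coe_one, one_mulVec, Matrix.one_apply]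
        rcases eq_or_ne x y with rfl | hxy
        · rw [if_pos rfl, Finset.sum_eq_single 1]
          · simp
          · intro a _ ha
            rw [if_neg fun h => ha ((eq_of_smul_rep (a := 1) (b := a) (by rw [Units.val_one, one_smul]; exact h)).2).symm]
          · simp
        · rw [if_neg hxy]
          refine Finset.sum_eq_zero fun a _ => if_neg fun h => hxy
            ((eq_of_smul_rep (a := 1) (b := a) (by rw [Units.val_one, one_smul]; exact h)).1).symm
      map_mul' := fun g h => by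
        ext x y
        obtain ⟨z, b, hz⟩ := exists_smul_rep (mulVec_ne_zero h y.rep_nonzero)
        have hrow : ∀ t, M h t y = if t = z then (l b : ℂ) else 0 := fun t => by
          simp only [M, Matrix.of_apply, hz]
          split_ifs with ht
          · subst ht
            rw [Finset.sum_eq_single b (fun a _ ha => if_neg fun hh => ha (eq_of_smul_rep hh).2.symm) (by simp),
              if_pos rfl]
          · exact Finset.sum_eq_zero fun a _ => if_neg fun hh => ht (eq_of_smul_rep hh).1.symm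
        rw [Matrix.mul_apply, Finset.sum_congr rfl fun t _ => by rw [hrow t], Finset.sum_eq_single z
          (fun t _ ht => by rw [if_neg ht, mul_zero]) (by simp), if_pos rfl]
        simp only [M, Matrix.of_apply, Finset.sum_mul, ite_mul, zero_mul]
        refine (Fintype.sum_equiv (Equiv.mulRight b) _ _ fun a => ?_).symm
        simp only [Equiv.coe_mulRight, map_mul, Units.val_mul]
        refine if_congr ?_ rfl rfl
        rw [Matrix.SpecialLinearGroup.coe_mul, ← mulVec_mulVec, hz, mulVec_smul, mul_comm (a : F), ← smul_smul]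
        exact (smul_right_injective _ b.ne_zero).eq_iff.symm }
  convert CfsgLib.Induction.isCharacter_of_matrix R using 1
  funext g
  show psi l g = ∑ x : ℙ F (Fin n → F), ∑ a : Fˣ, if g.1 *ᵥ x.rep = (a : F) • x.rep then (l a : ℂ) else 0
  rw [Finset.sum_comm]
  refine Finset.sum_congr rfl fun a _ => ?_
  rw [← Finset.sum_filter, Finset.sum_const, eigLines, Nat.card_eq_fintype_card, Fintype.card_subtype, nsmul_eq_mul,
    mul_comm]

theorem conj_hom (l : Fˣ →* ℂˣ) (a : Fˣ) : conj (l a : ℂ) = ((l⁻¹) a : ℂ) := by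
  have h : (l a : ℂ) ^ Fintype.card Fˣ = 1 := by
    rw [← Units.val_pow_eq_pow_val, ← map_pow, pow_card_eq_one, map_one, Units.val_one]
  rw [← Complex.inv_eq_conj (Complex.norm_eq_one_of_pow_eq_one h Fintype.card_ne_zero)]
  simp

open scoped Classical in
theorem sum_hom (l : Fˣ →* ℂˣ) : ∑ a : Fˣ, (l a : ℂ) = if l = 1 then (Fintype.card Fˣ : ℂ) else 0 := by
  classical
  have h := sum_hom_units ((Units.coeHom ℂ).comp l)
  have hiff : (Units.coeHom ℂ).comp l = 1 ↔ l = 1 :=
    ⟨fun h => MonoidHom.ext fun a => Units.ext (DFunLike.congr_fun h a), fun h => by subst h; ext; simp⟩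
  rw [if_congr hiff rfl rfl] at h
  rw [show (if l = 1 then (Fintype.card Fˣ : ℂ) else 0) = ((if l = 1 then Fintype.card Fˣ else 0 : ℕ) : ℂ) by
    split_ifs <;> simp] 
  exact h

open scoped Classical in
theorem classInner_psi (hn : 3 ≤ n) (l m : Fˣ →* ℂˣ) :
    Cfsg.classInner (psi (n := n) l) (psi m) =
      (if l = 1 then 1 else 0) * (if m = 1 then 1 else 0) + if l = m then 1 else 0 := by
  classical
  set k : ℂ := (Fintype.card Fˣ : ℂ) with hk
  have hk0 : k ≠ 0 := Nat.cast_ne_zero.2 Fintype.card_ne_zero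
  have hG : (Nat.card SLn : ℂ) ≠ 0 := Nat.cast_ne_zero.2 Nat.card_pos.ne'
  have hNN : ∀ a b, (∑ g : SLn, (eigLines a g : ℂ) * eigLines b g) * (k * k) =
      Nat.card SLn * (1 + if a = b then k else 0) := fun a b => by
    have h := congrArg (fun x : ℕ => (x : ℂ)) (sum_eigVecs_mul hn a b)
    simp only [eigVecs_eq, Nat.card_eq_fintype_card (α := Fˣ)] at h
    rw [show (∑ g : SLn, (eigLines a g : ℂ) * eigLines b g) * (k * k) =
      ((∑ g : SLn, eigLines a g * Fintype.card Fˣ * (eigLines b g * Fintype.card Fˣ) : ℕ) : ℂ) by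
        push_cast; rw [Finset.sum_mul]; exact Finset.sum_congr rfl fun g _ => by rw [hk]; ring]
    rw [h, hk]
    split_ifs <;> push_cast <;> ring
  have hm : ∀ g : SLn, conj (psi m g) = ∑ b, ((m⁻¹) b : ℂ) * eigLines b g := fun g => by
    simp only [psi, map_sum, map_mul, conj_hom, map_natCast]
  have hexp : (∑ g : SLn, psi l g * conj (psi m g)) * (k * k) =
      ∑ a, ∑ b, (l a : ℂ) * ((m⁻¹) b : ℂ) * (Nat.card SLn * (1 + if a = b then k else 0)) := by
    simp only [hm]
    simp only [← hNN, psi, Finset.sum_mul, Finset.mul_sum]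
    rw [Finset.sum_comm]
    refine (Finset.sum_congr rfl fun b _ => Finset.sum_comm).trans ?_
    rw [Finset.sum_comm]
    refine Finset.sum_congr rfl fun a _ => ?_
    exact Finset.sum_congr rfl fun b _ => Finset.sum_congr rfl fun g _ => by ring
  have hrhs : ∑ a, ∑ b, (l a : ℂ) * ((m⁻¹) b : ℂ) * (Nat.card SLn * (1 + if a = b then k else 0)) =
      Nat.card SLn * ((∑ a, (l a : ℂ)) * (∑ b, ((m⁻¹) b : ℂ)) + k * ∑ a, ((l * m⁻¹) a : ℂ)) := by
    simp only [mul_add, mul_ite, mul_zero, mul_one, Finset.sum_add_distrib, Finset.sum_ite_eq, Finset.mem_univ,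
      if_true]
    rw [Finset.sum_mul_sum, Finset.mul_sum, Finset.mul_sum]
    congr 1
    · refine Finset.sum_congr rfl fun a _ => ?_
      rw [Finset.mul_sum]
      exact Finset.sum_congr rfl fun b _ => by ring
    · rw [Finset.mul_sum]
      exact Finset.sum_congr rfl fun a _ => by
        simp only [MonoidHom.mul_apply, Units.val_mul]; ring
  rw [Cfsg.classInner, ← mul_left_inj' (mul_ne_zero hk0 hk0), mul_assoc, hexp, hrhs, sum_hom l, sum_hom m⁻¹,
    sum_hom (l * m⁻¹), ← mul_assoc, inv_mul_cancel₀ hG, one_mul]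
  rw [← hk]
  have e1 : m⁻¹ = 1 ↔ m = 1 :=
    ⟨fun h => MonoidHom.ext fun a => inv_eq_one.mp (DFunLike.congr_fun h a), fun h => by subst h; ext; simp⟩
  have e2 : l * m⁻¹ = 1 ↔ l = m :=
    ⟨fun h => MonoidHom.ext fun a => mul_inv_eq_one.mp (DFunLike.congr_fun h a), fun h => by subst h; ext; simp⟩
  simp only [e1, e2]
  split_ifs <;> first | ring1 | (exfalso; simp_all)

open scoped Classical in
theorem classInner_psi_one (hn : 3 ≤ n) (l : Fˣ →* ℂˣ) :
    Cfsg.classInner (psi (n := n) l) (1 : Matrix.SpecialLinearGroup (Fin n) F → ℂ) = if l = 1 then 1 else 0 := by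
  classical
  have hk0 : (Fintype.card Fˣ : ℂ) ≠ 0 := Nat.cast_ne_zero.2 Fintype.card_ne_zero
  have hG : (Nat.card SLn : ℂ) ≠ 0 := Nat.cast_ne_zero.2 Nat.card_pos.ne'
  have hN : ∀ a, (∑ g : SLn, (eigLines a g : ℂ)) * Fintype.card Fˣ = Nat.card SLn := fun a => by
    have h := congrArg (fun x : ℕ => (x : ℂ)) (sum_eigVecs (n := n) hn a)
    simp only [eigVecs_eq, Nat.card_eq_fintype_card (α := Fˣ), Nat.cast_sum, Nat.cast_mul] at h
    rw [Finset.sum_mul]
    exact h
  rw [Cfsg.classInner, ← mul_left_inj' hk0, mul_assoc]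
  simp only [Pi.one_apply, map_one, mul_one, psi]
  rw [Finset.sum_comm, Finset.sum_mul, Finset.sum_congr rfl fun a _ => by rw [← Finset.mul_sum, mul_assoc, hN a],
    ← Finset.sum_mul, mul_comm _ (Nat.card SLn : ℂ), ← mul_assoc, inv_mul_cancel₀ hG, one_mul, sum_hom]
  split_ifs <;> simp

theorem sum_psi_eq (g : Matrix.SpecialLinearGroup (Fin n) F) [Fintype (Fˣ →* ℂˣ)]
    (hcard : Fintype.card (Fˣ →* ℂˣ) = Fintype.card Fˣ) :
    ∑ l : Fˣ →* ℂˣ, psi l g = (eigVecs (1 : Fˣ) g : ℂ) := by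
  classical
  simp only [psi]
  rw [Finset.sum_comm, Finset.sum_eq_single (1 : Fˣ)]
  · rw [eigVecs_eq, Nat.card_eq_fintype_card, ← hcard, Nat.cast_mul]
    simp [mul_comm]
  · intro a _ ha
    obtain ⟨m, hm⟩ := CommGroup.exists_apply_ne_one_of_hasEnoughRootsOfUnity Fˣ ℂ ha
    have h0 : (m a : ℂ) * ∑ l : Fˣ →* ℂˣ, (l a : ℂ) = 1 * ∑ l : Fˣ →* ℂˣ, (l a : ℂ) := by
      rw [one_mul, Finset.mul_sum]
      exact Fintype.sum_equiv (Equiv.mulLeft m) _ _ fun l => by simp
    have h1 : ∑ l : Fˣ →* ℂˣ, (l a : ℂ) = 0 := by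
      by_contra h
      exact hm (Units.ext (mul_right_cancel₀ h h0))
    rw [← Finset.sum_mul, h1, zero_mul]
  · simp

theorem exists_decomp (hn : 3 ≤ n) :
    ∃ χ : Fin (Fintype.card F - 1) → (Matrix.SpecialLinearGroup (Fin n) F → ℂ),
      (∀ i, Cfsg.IsIrrCharacter (Matrix.SpecialLinearGroup (Fin n) F) (χ i)) ∧ Function.Injective χ ∧
      ∀ g : Matrix.SpecialLinearGroup (Fin n) F,
        (Nat.card {v : Fin n → F // v ≠ 0 ∧ (g : Matrix (Fin n) (Fin n) F).mulVec v = v} : ℂ) = 1 + ∑ i, χ i g := by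
  classical
  obtain ⟨iso⟩ := CommGroup.monoidHom_mulEquiv_of_hasEnoughRootsOfUnity Fˣ ℂ
  haveI : Finite (Fˣ →* ℂˣ) := Finite.of_equiv _ iso.symm.toEquiv
  haveI := Fintype.ofFinite (Fˣ →* ℂˣ)
  have hcard : Fintype.card (Fˣ →* ℂˣ) = Fintype.card Fˣ := Fintype.card_congr iso.toEquiv
  have hc2 : Fintype.card F - 1 = Fintype.card (Fˣ →* ℂˣ) := by rw [hcard, Fintype.card_units]
  let e : Fin (Fintype.card F - 1) ≃ (Fˣ →* ℂˣ) := (finCongr hc2).trans (Fintype.equivFin _).symm
  let X : (Fˣ →* ℂˣ) → SLn → ℂ := fun l => if l = 1 then psi l - 1 else psi l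
  have hX : ∀ l m, Cfsg.classInner (X l) (X m) = if l = m then 1 else 0 := by
    intro l m
    have h11 : Cfsg.classInner (1 : SLn → ℂ) (1 : SLn → ℂ) = 1 := by
      simp [Cfsg.classInner, Nat.card_eq_fintype_card]
    have h1p : ∀ l' : Fˣ →* ℂˣ, Cfsg.classInner (1 : SLn → ℂ) (psi l') = if l' = 1 then 1 else 0 := fun l' => by
      rw [CfsgLib.Characters.classInner_conj_symm, classInner_psi_one hn]
      split_ifs <;> simp
    by_cases hl : l = 1 <;> by_cases hm' : m = 1 <;>
      simp [X, hl, hm', CfsgLib.Characters.classInner_sub_left, CfsgLib.Characters.classInner_sub_right,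
        classInner_psi hn, classInner_psi_one hn, h1p, h11, Ne.symm] <;>
      simp_all
  have hirr : ∀ l, Cfsg.IsIrrCharacter SLn (X l) := by
    intro l
    refine CfsgLib.Characters.isIrrCharacter_of_generalized_norm_one ?_ (by rw [hX, if_pos rfl]) ?_
    · simp only [X]
      split_ifs
      · exact CfsgLib.Characters.isGeneralizedCharacter_sub
          (CfsgLib.Characters.isGeneralizedCharacter_of_isCharacter (isCharacter_psi l))
          CfsgLib.Characters.isGeneralizedCharacter_one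
      · exact CfsgLib.Characters.isGeneralizedCharacter_of_isCharacter (isCharacter_psi l)
    · have hne : Nonempty (ℙ F (Fin n → F)) :=
        ⟨Projectivization.mk F (Pi.single (⟨0, by omega⟩ : Fin n) (1 : F)) (by simp)⟩
      have hpos : 0 < Nat.card (ℙ F (Fin n → F)) := Nat.card_pos
      have hdeg : psi l (1 : SLn) = (Nat.card (ℙ F (Fin n → F)) : ℂ) := by
        simp only [psi, eigLines, Matrix.SpecialLinearGroup.coe_one, one_mulVec]
        rw [Finset.sum_eq_single (1 : Fˣ)]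
        · simp
        · intro a _ ha
          rw [Nat.card_eq_zero.2 (Or.inl ⟨fun x => ha (eq_of_smul_rep (a := 1) (b := a)
            (by rw [Units.val_one, one_smul]; exact x.2)).2.symm⟩)]
          simp
        · simp
      simp only [X]
      split_ifs <;> simp only [Pi.sub_apply, Pi.one_apply, hdeg, Complex.sub_re, Complex.natCast_re, Complex.one_re]
      · have : (1 : ℝ) ≤ (Nat.card (ℙ F (Fin n → F)) : ℝ) := by exact_mod_cast hpos
        linarith
      · positivity
  refine ⟨fun i => X (e i), fun i => hirr _, fun i j h => ?_, fun g => ?_⟩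
  · have h1 := hX (e i) (e i)
    rw [if_pos rfl] at h1
    have h2 : Cfsg.classInner (X (e i)) (X (e j)) = 1 := by
      rw [show X (e j) = X (e i) from h.symm]; exact h1
    rw [hX] at h2
    exact e.injective (by_contra fun hne => by rw [if_neg hne] at h2; exact zero_ne_one h2)
  · rw [Equiv.sum_comp e (fun l => X l g), show
      (Nat.card {v : Fin n → F // v ≠ 0 ∧ g.1 *ᵥ v = v} : ℂ) = (eigVecs (1 : Fˣ) g : ℂ) by
        simp only [eigVecs, Units.val_one, one_smul], ← sum_psi_eq g hcard]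
    have : ∑ l, X l g = ∑ l, (psi l g - if l = 1 then 1 else 0) := Finset.sum_congr rfl fun l _ => by
      simp only [X]; split_ifs <;> simp
    rw [this, Finset.sum_sub_distrib]
    simp

end CfsgLib.SLWeilPerm
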