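import Cfsg.Agent.Lib.RegUnipU.Elem
import Cfsg.Agent.Lib.ClassicalGroups.HermBasic

set_option autoImplicit false

/-!
Hermitian geometry and the elements of `SU_n(q)` attached to a non-degenerate subspace, used for the bound on
degrees of complex representations.
-/

namespace CfsgLib.CharBound.SUn

open Cfsg Matrix CfsgLib.RegUnipU

variable {F : Type*} [Field F] [Fintype F] {n q : ℕ}

local notation "hh" => Cfsg.hermForm n F q
local notation "GG" => (Subtype fun g => g ∈ Cfsg.SU n F q)

/-- The conjugation. -/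
def conj (hF : Fintype.card F = q ^ 2) : Conj F q where
  σ := CfsgLib.ClassicalGroups.hermConj hF
  hσ _ := rfl
  hσ2 x := CfsgLib.ClassicalGroups.hermConj_conj hF x

variable (hF : Fintype.card F = q ^ 2)
include hF

theorem exists_trace_one : ∃ r : F, r + (conj hF).σ r = 1 := by
  classical
  obtain ⟨x, hx⟩ : ∃ x : F, x + (conj hF).σ x ≠ 0 := by
    by_contra h
    push Not at h
    have hq := CfsgLib.ClassicalGroups.herm_two_le hF
    let f : Polynomial F := Polynomial.X ^ q + Polynomial.X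
    have hdeg : f.natDegree = q := by
      simp only [f]
      rw [Polynomial.natDegree_add_eq_left_of_natDegree_lt (by simp; omega), Polynomial.natDegree_X_pow]
    have hf0 : f ≠ 0 := fun e => by rw [e, Polynomial.natDegree_zero] at hdeg; omega
    have hsub : (Finset.univ : Finset F) ⊆ f.roots.toFinset := fun x _ => by
      rw [Multiset.mem_toFinset, Polynomial.mem_roots hf0]
      simp [f, add_comm, ← h x, (conj hF).hσ]
    have := (Finset.card_le_card hsub).trans ((Multiset.toFinset_card_le _).trans (Polynomial.card_roots' f))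
    rw [Finset.card_univ, hF, hdeg] at this
    nlinarith
  refine ⟨x / (x + (conj hF).σ x), ?_⟩
  rw [map_div₀, map_add, (conj hF).hσ2, add_comm ((conj hF).σ x) x, ← add_div, div_self hx]

theorem exists_skew_sub {c : F} (hc : (conj hF).σ c = -c) : ∃ r : F, r - (conj hF).σ r = c := by
  obtain ⟨r, hr⟩ := exists_trace_one hF
  refine ⟨c * r, ?_⟩
  rw [map_mul, hc]
  linear_combination c * hr

theorem exists_norm {c : F} (hc : (conj hF).σ c = c) (hc0 : c ≠ 0) :
    ∃ x : F, x ≠ 0 ∧ x * (conj hF).σ x = c := by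
  obtain ⟨x, hx0, hx⟩ := CfsgLib.ClassicalGroups.exists_norm_eq hF (c := c) ((conj hF).hσ c ▸ hc) hc0
  exact ⟨x, hx0, by rw [(conj hF).hσ, ← pow_succ', hx]⟩

theorem card_fixed_units : Nat.card {r : F // (conj hF).σ r = r ∧ r ≠ 0} = q - 1 := by
  have hq := CfsgLib.ClassicalGroups.herm_two_le hF
  have h3 : Nat.card (powMonoidHom (q - 1) : Fˣ →* Fˣ).ker = q - 1 := by
    rw [IsCyclic.card_powMonoidHom_ker, CfsgLib.ClassicalGroups.card_units_herm hF,
      Nat.gcd_eq_right (Dvd.intro _ rfl)]
  conv_rhs => rw [← h3]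
  have key : ∀ x : F, x ≠ 0 → (x ^ (q - 1) = 1 ↔ x ^ q = x) := fun x hx => by
    conv_rhs => lhs; rw [show q = q - 1 + 1 by omega, pow_succ]
    exact ⟨fun h => by rw [h, one_mul], fun h => mul_right_cancel₀ hx (h.trans (one_mul x).symm)⟩
  refine Nat.card_congr
    { toFun := fun r => ⟨Units.mk0 r.1 r.2.2, Units.ext ?_⟩
      invFun := fun u => ⟨(u.1 : F), ?_, u.1.ne_zero⟩
      left_inv := fun r => Subtype.ext rfl
      right_inv := fun u => Subtype.ext (Units.ext rfl) }
  · show r.1 ^ (q - 1) = 1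
    rw [key _ r.2.2, ← (conj hF).hσ]
    exact r.2.1
  · rw [(conj hF).hσ, ← key _ u.1.ne_zero]
    exact congrArg Units.val u.2

omit hF

/-- Non-degenerate subspaces. -/
def Nondeg (q' : ℕ) (U : Submodule F (Fin n → F)) : Prop :=
  ∀ u ∈ U, u ≠ 0 → ∃ v ∈ U, Cfsg.hermForm n F q' u v = 1

/-- `g` fixes the orthogonal complement of `U` pointwise. -/
def Fixes (U : Submodule F (Fin n → F)) (g : GG) : Prop :=
  ∀ v, (∀ u ∈ U, hh v u = 0) → mat g *ᵥ v = v

theorem fixes_mul {U : Submodule F (Fin n → F)} {g k : GG} (hg : Fixes U g) (hk : Fixes U k) :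
    Fixes U (g * k) := fun v hv => by rw [mulVec_mul, hk v hv, hg v hv]

theorem fixes_inv {U : Submodule F (Fin n → F)} {g : GG} (hg : Fixes U g) : Fixes U g⁻¹ :=
  fun v hv => inv_fix (hg v hv)

theorem fixes_mono {U U' : Submodule F (Fin n → F)} (h : U' ≤ U) {g : GG} (hg : Fixes U' g) : Fixes U g :=
  fun v hv => hg v fun u hu => hv u (h hu)

include hF

theorem symm_conj (u v : Fin n → F) : hh v u = (conj hF).σ (hh u v) := (conj hF).flip u v

theorem self_fixed (v : Fin n → F) : (conj hF).σ (hh v v) = hh v v := ((conj hF).flip v v).symm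

theorem exists_aniso {U : Submodule F (Fin n → F)} (hU : Nondeg q U) (hne : U ≠ ⊥) :
    ∃ a ∈ U, hh a a ≠ 0 := by
  by_contra hcon
  push Not at hcon
  obtain ⟨u, hu, hu0⟩ := Submodule.exists_mem_ne_zero_of_ne_bot hne
  obtain ⟨v, hv, huv⟩ := hU u hu hu0
  obtain ⟨r, hr⟩ := exists_trace_one hF
  have := hcon (r • u + v) (add_mem (U.smul_mem r hu) hv)
  rw [(conj hF).add_left, (conj hF).add_right, (conj hF).add_right, (conj hF).smul_left, (conj hF).smul_left,
    (conj hF).smul_right, (conj hF).smul_right, hcon u hu, hcon v hv, huv, symm_conj hF u v, huv, map_one,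
    mul_zero, mul_zero, mul_one, mul_one] at this
  exact one_ne_zero (α := F) (by linear_combination this - hr)

theorem exists_isotropic {U : Submodule F (Fin n → F)} (hU : Nondeg q U) (h2 : 2 ≤ Module.finrank F U) :
    ∃ x ∈ U, x ≠ 0 ∧ hh x x = 0 := by
  obtain ⟨a, ha, haa⟩ := exists_aniso hF hU (fun e => by rw [e, finrank_bot] at h2; omega)
  obtain ⟨v, hv, hva⟩ : ∃ v ∈ U, v ∉ F ∙ a := by
    by_contra hcon
    push Not at hcon
    have := Submodule.finrank_mono (show U ≤ F ∙ a from hcon)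
    rw [finrank_span_singleton (fun e => haa (by rw [e, (conj hF).zero_left]))] at this
    omega
  let b := v - (hh v a / hh a a) • a
  have hba : hh b a = 0 := by
    simp only [b, (conj hF).sub_left, (conj hF).smul_left, div_mul_cancel₀ _ haa, sub_self]
  have hb : b ∈ U := sub_mem hv (U.smul_mem _ ha)
  have hb0 : b ≠ 0 := fun e => hva (Submodule.mem_span_singleton.mpr ⟨hh v a / hh a a, (sub_eq_zero.mp e).symm⟩)
  by_cases hbb : hh b b = 0
  · exact ⟨b, hb, hb0, hbb⟩
  · obtain ⟨t, ht0, ht⟩ := exists_norm hF (c := -(hh a a / hh b b))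
      (by rw [map_neg, map_div₀, self_fixed hF, self_fixed hF]) (neg_ne_zero.mpr (div_ne_zero haa hbb))
    refine ⟨a + t • b, add_mem ha (U.smul_mem t hb), fun e => hva ?_, ?_⟩
    · refine Submodule.mem_span_singleton.mpr ⟨hh v a / hh a a - t⁻¹, ?_⟩
      have : t • b = -a := eq_neg_of_add_eq_zero_right e
      have h1 : b = -(t⁻¹ • a) := by
        rw [← smul_neg, ← this, smul_smul, inv_mul_cancel₀ ht0, one_smul]
      rw [sub_smul, sub_eq_add_neg, ← h1]
      simp [b]
    · rw [(conj hF).add_left, (conj hF).add_right, (conj hF).add_right, (conj hF).smul_left,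
        (conj hF).smul_left, (conj hF).smul_right, (conj hF).smul_right, hba, (conj hF).flip_zero hba,
        ← mul_assoc, ht, neg_mul, div_mul_cancel₀ _ hbb, mul_zero, mul_zero]
      ring

/-- An isotropic partner. -/
theorem exists_partner {U : Submodule F (Fin n → F)} (hU : Nondeg q U) {x : Fin n → F} (hx : x ∈ U)
    (hx0 : x ≠ 0) (hxx : hh x x = 0) : ∃ y ∈ U, hh y y = 0 ∧ hh x y = 1 := by
  obtain ⟨v, hv, hxv⟩ := hU x hx hx0
  obtain ⟨r, hr⟩ := exists_trace_one hF
  refine ⟨v + (-(hh v v * r)) • x, add_mem hv (U.smul_mem _ hx), ?_, ?_⟩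
  · rw [(conj hF).add_left, (conj hF).add_right, (conj hF).add_right, (conj hF).smul_left,
      (conj hF).smul_left, (conj hF).smul_right, (conj hF).smul_right, hxx, hxv, symm_conj hF x v, hxv,
      map_one, map_neg, map_mul, self_fixed hF]
    linear_combination (-(hh v v)) * hr
  · rw [(conj hF).add_right, (conj hF).smul_right, hxx, hxv, mul_zero, add_zero]

omit hF

/-- The orthogonal complement, inside `U`, of a hyperbolic pair. -/
def perp2 (C : Conj F q) (U : Submodule F (Fin n → F)) (x y : Fin n → F) : Submodule F (Fin n → F) where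
  carrier := {v | v ∈ U ∧ hh v x = 0 ∧ hh v y = 0}
  zero_mem' := ⟨U.zero_mem, C.zero_left x, C.zero_left y⟩
  add_mem' ha hb := ⟨add_mem ha.1 hb.1, by rw [C.add_left, ha.2.1, hb.2.1, add_zero],
    by rw [C.add_left, ha.2.2, hb.2.2, add_zero]⟩
  smul_mem' r _ ha := ⟨U.smul_mem r ha.1, by rw [C.smul_left, ha.2.1, mul_zero],
    by rw [C.smul_left, ha.2.2, mul_zero]⟩

theorem mem_perp2 {C : Conj F q} {U : Submodule F (Fin n → F)} {x y v : Fin n → F} :
    v ∈ perp2 C U x y ↔ v ∈ U ∧ hh v x = 0 ∧ hh v y = 0 := Iff.rfl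

/-- Hyperbolic pairs in `U`. -/
structure Pair (U : Submodule F (Fin n → F)) (x y : Fin n → F) : Prop where
  hx : x ∈ U
  hy : y ∈ U
  hxx : hh x x = 0
  hyy : hh y y = 0
  hxy : hh x y = 1

include hF

variable {U : Submodule F (Fin n → F)} {x y : Fin n → F}

theorem Pair.hyx (h : Pair (q := q) U x y) : hh y x = 1 := by rw [symm_conj hF x y, h.hxy, map_one]

theorem proj_mem (h : Pair (q := q) U x y) {v : Fin n → F} (hv : v ∈ U) :
    v - hh v y • x - hh v x • y ∈ perp2 (conj hF) U x y := by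
  refine mem_perp2.mpr ⟨sub_mem (sub_mem hv (U.smul_mem _ h.hx)) (U.smul_mem _ h.hy), ?_, ?_⟩
  · simp [(conj hF).sub_left, (conj hF).smul_left, h.hxx, h.hyx hF]
  · simp [(conj hF).sub_left, (conj hF).smul_left, h.hxy, h.hyy]

theorem nondeg_perp2 (hU : Nondeg q U) (h : Pair (q := q) U x y) : Nondeg q (perp2 (conj hF) U x y) := by
  intro u hu hu0
  obtain ⟨huU, hux, huy⟩ := mem_perp2.mp hu
  obtain ⟨v, hv, huv⟩ := hU u huU hu0
  refine ⟨_, proj_mem hF h hv, ?_⟩
  simp [(conj hF).sub_right, (conj hF).smul_right, hux, huy, huv]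

theorem finrank_perp2 (h : Pair (q := q) U x y) :
    Module.finrank F U = Module.finrank F (perp2 (conj hF) U x y) + 2 := by
  let e : U ≃ₗ[F] (perp2 (conj hF) U x y) × (F × F) :=
    { toFun := fun v => (⟨_, proj_mem hF h v.2⟩, (hh v.1 y, hh v.1 x))
      map_add' := fun a b => by
        refine Prod.ext (Subtype.ext ?_) (Prod.ext ?_ ?_)
        · simp only [Submodule.coe_add, Prod.fst_add, (conj hF).add_left]; module
        · exact (conj hF).add_left _ _ _
        · exact (conj hF).add_left _ _ _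
      map_smul' := fun r a => by
        refine Prod.ext (Subtype.ext ?_) (Prod.ext ?_ ?_)
        · simp only [Submodule.coe_smul, RingHom.id_apply, Prod.smul_fst, (conj hF).smul_left]; module
        · exact (conj hF).smul_left _ _ _
        · exact (conj hF).smul_left _ _ _
      invFun := fun p => ⟨p.1.1 + p.2.1 • x + p.2.2 • y,
        add_mem (add_mem (mem_perp2.mp p.1.2).1 (U.smul_mem _ h.hx)) (U.smul_mem _ h.hy)⟩
      left_inv := fun v => Subtype.ext (by simp; abel)
      right_inv := fun p => by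
        obtain ⟨⟨z, hz⟩, a, b⟩ := p
        obtain ⟨-, h1, h2⟩ := mem_perp2.mp hz
        have e1 : hh (z + a • x + b • y) y = a := by
          simp [(conj hF).add_left, (conj hF).smul_left, h2, h.hxy, h.hyy]
        have e2 : hh (z + a • x + b • y) x = b := by
          simp [(conj hF).add_left, (conj hF).smul_left, h1, h.hxx, h.hyx hF]
        refine Prod.ext (Subtype.ext ?_) (Prod.ext e1 e2)
        show z + a • x + b • y - hh (z + a • x + b • y) y • x - hh (z + a • x + b • y) x • y = z
        rw [e1, e2]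
        abel }
  rw [e.finrank_eq, Module.finrank_prod, Module.finrank_prod, Module.finrank_self]

/-- A matrix of determinant one preserving the form, as an element of the group. -/
theorem exists_elem (M : Matrix (Fin n) (Fin n) F) (hdet : M.det = 1)
    (hM : ∀ u v, hh (M *ᵥ u) (M *ᵥ v) = hh u v) : ∃ g : GG, ∀ v, mat g *ᵥ v = M *ᵥ v :=
  ⟨⟨⟨M, hdet⟩, hM⟩, fun _ => rfl⟩

/-- The Heisenberg element `v ↦ v + h(v,x) w - h(v,w) x + a h(v,x) x`. -/
def IsE (x : Fin n → F) (a : F) (w : Fin n → F) (g : GG) : Prop :=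
  ∀ v, mat g *ᵥ v = v + hh v x • w - hh v w • x + (a * hh v x) • x

theorem exists_isE (hxx : hh x x = 0) {w : Fin n → F} (hwx : hh w x = 0) {a : F}
    (ha : a + (conj hF).σ a + hh w w = 0) : ∃ g : GG, IsE x a w g := by
  let C := conj hF
  have hxw : hh x w = 0 := C.flip_zero hwx
  obtain ⟨r, hr⟩ : ∃ r, r = hh w w := ⟨_, rfl⟩
  -- shift the parameter by `h(w, w)`
  let M' := C.rankOne x x (a + r) * (C.rankOne x w (-1) * C.rankOne w x 1)
  have hdet' : M'.det = 1 := by
    simp only [M', det_mul, C.det_rankOne, hxx, hxw, hwx, mul_zero, add_zero, mul_one]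
  have hap' : ∀ v, M' *ᵥ v = v + hh v x • w - hh v w • x + (a * hh v x) • x := by
    intro v
    simp only [M', ← mulVec_mulVec, C.rankOne_mulVec, C.add_left, C.smul_left, hxx, hwx, mul_zero, add_zero,
      hr]
    module
  obtain ⟨g, hg⟩ := exists_elem hF M' hdet' fun u v => by
    rw [hap', hap']
    simp only [C.add_left, C.add_right, C.sub_left, C.sub_right, C.smul_left, C.smul_right, hxx, hwx, hxw,
      map_mul, ← C.flip v x, ← C.flip v w]
    linear_combination (hh u x * hh x v) * ha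
  exact ⟨g, fun v => by rw [hg, hap']⟩

theorem isE_fixes (hx : x ∈ U) {w : Fin n → F} (hw : w ∈ U) {a : F} {g : GG} (h : IsE x a w g) :
    Fixes U g := fun v hv => by
  rw [h v, hv x hx, hv w hw]; simp

theorem isE_mul (hxx : hh x x = 0) {w u : Fin n → F} (hwx : hh w x = 0) (hux : hh u x = 0) {a b : F}
    {g k : GG} (hg : IsE x a w g) (hk : IsE x b u k) : IsE x (a + b - hh u w) (w + u) (g * k) := by
  intro v
  have hxw : hh x w = 0 := (conj hF).flip_zero hwx
  rw [mulVec_mul, hk v, hg]
  simp only [(conj hF).add_left, (conj hF).add_right, (conj hF).sub_left, (conj hF).smul_left, hxx, hux, hxw]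
  module

theorem isE_ext {w : Fin n → F} {a : F} {g k : GG} (hg : IsE x a w g) (hk : IsE x a w k) : g = k :=
  su_ext fun v => by rw [hg v, hk v]

/-- Two Heisenberg elements commute up to a transvection. -/
theorem isE_comm (hxx : hh x x = 0) {w u : Fin n → F} (hwx : hh w x = 0) (hux : hh u x = 0) {a b : F}
    {g k : GG} (hg : IsE x a w g) (hk : IsE x b u k) :
    g * k = (conj hF).tm x (hh w u - hh u w) * (k * g) := by
  have hc : (conj hF).σ (hh w u - hh u w) = -(hh w u - hh u w) := by
    rw [map_sub, ← (conj hF).flip, ← (conj hF).flip]; ring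
  refine su_ext fun v => ?_
  have h2 := isE_mul hF hxx hux hwx hk hg v
  rw [isE_mul hF hxx hwx hux hg hk v, mulVec_mul, (conj hF).tm_mulVec hxx hc, h2]
  simp only [(conj hF).add_left, (conj hF).add_right, (conj hF).sub_left, (conj hF).smul_left, hxx, hwx, hux,
    (conj hF).flip_zero hwx, (conj hF).flip_zero hux]
  module

theorem isE_tm_comm (hxx : hh x x = 0) {w : Fin n → F} (hwx : hh w x = 0) {a c : F} {g : GG}
    (hg : IsE x a w g) (hc : (conj hF).σ c = -c) : g * (conj hF).tm x c = (conj hF).tm x c * g := by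
  have hx : mat g *ᵥ x = x := by rw [hg x, hxx, (conj hF).flip_zero hwx]; simp
  have := (conj hF).conj_tm g hxx hc
  rw [hx, mul_inv_eq_iff_eq_mul] at this
  exact this

/-- The multiplier on an isotropic vector of a quasi-reflection times a torus element. -/
theorem exists_scale_aniso (h : Pair (q := q) U x y) {w : Fin n → F} (hw : w ∈ perp2 (conj hF) U x y)
    (hww : hh w w ≠ 0) {s : F} (hs : s ≠ 0) : ∃ g : GG, Fixes U g ∧ mat g *ᵥ x = s • x := by
  let C := conj hF
  obtain ⟨hwU, hwx, hwy⟩ := mem_perp2.mp hw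
  have hxw := C.flip_zero hwx
  have hyw := C.flip_zero hwy
  have hs' : C.σ s ≠ 0 := by simpa using hs
  let M := C.rankOne w w ((C.σ s / s - 1) / hh w w) * (C.rankOne x y (s - 1) * C.rankOne y x ((C.σ s)⁻¹ - 1))
  have hdet : M.det = 1 := by
    simp only [M, det_mul, C.det_rankOne, h.hxy, h.hyx hF, div_mul_cancel₀ _ hww, mul_one, add_sub_cancel]
    field_simp
  have hap : ∀ v, M *ᵥ v = v + ((s - 1) * hh v y) • x + (((C.σ s)⁻¹ - 1) * hh v x) • y +
      ((C.σ s / s - 1) / hh w w * hh v w) • w := by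
    intro v
    simp only [M, ← mulVec_mulVec, C.rankOne_mulVec, C.add_left, C.smul_left, h.hyy, hxw, hyw, mul_zero,
      add_zero]
    module
  obtain ⟨g, hg⟩ := exists_elem hF M hdet fun u v => by
    rw [hap, hap]
    simp only [C.add_left, C.add_right, C.smul_left, C.smul_right, h.hxx, h.hyy, h.hxy, h.hyx hF, hxw, hyw, hwx,
      hwy, map_mul, map_sub, map_one, map_inv₀, map_div₀, C.hσ2, show C.σ (hh w w) = hh w w from self_fixed hF w, ← C.flip v x,
      ← C.flip v y, ← C.flip v w]
    field_simp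
    ring
  refine ⟨g, fun v hv => ?_, ?_⟩
  · rw [hg, hap, hv y h.hy, hv x h.hx, hv w hwU]; simp
  · rw [hg, hap, h.hxx, h.hxy, hxw]; simp [sub_smul]

/-- The same with a second hyperbolic pair in place of the anisotropic vector. -/
theorem exists_scale_pair (h : Pair (q := q) U x y) {z t : Fin n → F} (h' : Pair (q := q) U z t)
    (hzx : hh z x = 0) (hzy : hh z y = 0) (htx : hh t x = 0) (hty : hh t y = 0) {s : F} (hs : s ≠ 0) :
    ∃ g : GG, Fixes U g ∧ mat g *ᵥ x = s • x ∧ mat g *ᵥ z = s⁻¹ • z := by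
  let C := conj hF
  have hxz := C.flip_zero hzx
  have hyz := C.flip_zero hzy
  have hxt := C.flip_zero htx
  have hyt := C.flip_zero hty
  have hs' : C.σ s ≠ 0 := by simpa using hs
  let M := (C.rankOne z t (s⁻¹ - 1) * C.rankOne t z (C.σ s - 1)) *
    (C.rankOne x y (s - 1) * C.rankOne y x ((C.σ s)⁻¹ - 1))
  have hdet : M.det = 1 := by
    simp only [M, det_mul, C.det_rankOne, h.hxy, h.hyx hF, h'.hxy, h'.hyx hF, mul_one, add_sub_cancel]
    field_simp
  have hap : ∀ v, M *ᵥ v = v + ((s - 1) * hh v y) • x + (((C.σ s)⁻¹ - 1) * hh v x) • y +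
      ((s⁻¹ - 1) * hh v t) • z + ((C.σ s - 1) * hh v z) • t := by
    intro v
    simp only [M, ← mulVec_mulVec, C.rankOne_mulVec, C.add_left, C.smul_left, h.hyy, h'.hyy, hxz, hxt, hyz, hyt,
      mul_zero, add_zero]
    module
  obtain ⟨g, hg⟩ := exists_elem hF M hdet fun u v => by
    rw [hap, hap]
    simp only [C.add_left, C.add_right, C.smul_left, C.smul_right, h.hxx, h.hyy, h.hxy, h.hyx hF, h'.hxx, h'.hyy,
      h'.hxy, h'.hyx hF, hzx, hzy, htx, hty, hxz, hyz, hxt, hyt, map_mul, map_sub, map_one, map_inv₀, C.hσ2,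
      ← C.flip v x, ← C.flip v y, ← C.flip v z, ← C.flip v t]
    field_simp
    ring
  refine ⟨g, fun v hv => ?_, ?_, ?_⟩
  · rw [hg, hap, hv y h.hy, hv x h.hx, hv t h'.hy, hv z h'.hx]; simp
  · rw [hg, hap, h.hxx, h.hxy, hxz, hxt]; simp [sub_smul]
  · rw [hg, hap, hzy, hzx, h'.hxx, h'.hxy]; simp [sub_smul]

/-- Interchanging two orthogonal isotropic vectors. -/
theorem exists_swap (h : Pair (q := q) U x y) {z t : Fin n → F} (h' : Pair (q := q) U z t)
    (hzx : hh z x = 0) (hzy : hh z y = 0) (htx : hh t x = 0) (hty : hh t y = 0) :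
    ∃ g : GG, Fixes U g ∧ mat g *ᵥ x = z := by
  let C := conj hF
  have hxz := C.flip_zero hzx
  have hyz := C.flip_zero hzy
  have hxt := C.flip_zero htx
  have hyt := C.flip_zero hty
  let a := z - x
  let b := y - t
  let M := C.rankOne a b 1 * C.rankOne b a 1
  have hbb : hh b b = 0 := by simp [b, C.sub_left, C.sub_right, h.hyy, h'.hyy, hty, hyt]
  have haa : hh a a = 0 := by simp [a, C.sub_left, C.sub_right, h.hxx, h'.hxx, hzx, hxz]
  have hab : hh a b = -2 := by
    simp only [a, b, C.sub_left, C.sub_right, h.hxy, h'.hxy, hzy, hxt]; norm_num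
  have hba : hh b a = -2 := by
    rw [symm_conj hF a b, hab, map_neg, map_ofNat]
  have hdet : M.det = 1 := by
    simp only [M, det_mul, C.det_rankOne, hab, hba]; ring
  have hap : ∀ v, M *ᵥ v = v + hh v a • b + hh v b • a := by
    intro v
    simp only [M, ← mulVec_mulVec, C.rankOne_mulVec, C.add_left, C.smul_left, hbb, mul_zero, add_zero, one_mul]
  obtain ⟨g, hg⟩ := exists_elem hF M hdet fun u v => by
    rw [hap, hap]
    simp only [C.add_left, C.add_right, C.smul_left, C.smul_right, haa, hbb, hab, hba, ← C.flip v a,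
      ← C.flip v b]
    ring
  refine ⟨g, fun v hv => ?_, ?_⟩
  · rw [hg, hap, hv a (sub_mem h'.hx h.hx), hv b (sub_mem h.hy h'.hy)]; simp
  · rw [hg, hap]
    simp [a, b, C.sub_right, h.hxx, h.hxy, hxz, hxt]

end CfsgLib.CharBound.SUn
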