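import Cfsg.Agent.Lib.CharBound.SUEigen
import Cfsg.Agent.Lib.CharBound.Irreducible
import Cfsg.Agent.S0780

set_option autoImplicit false

/-! The degree bound `(q ^ n - ε) / (q + 1)` for non-trivial complex representations of `SU_n(q)`. -/

namespace CfsgLib.CharBound.SUn

open Cfsg Matrix CfsgLib.RegUnipU Module

variable {F : Type*} [Field F] [Fintype F] {n q : ℕ} {W : Type*} [AddCommGroup W] [Module ℂ W]
  [FiniteDimensional ℂ W] {ρ : Representation ℂ (Subtype fun g => g ∈ Cfsg.SU n F q) W}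

local notation "hh" => Cfsg.hermForm n F q
local notation "GG" => (Subtype fun g => g ∈ Cfsg.SU n F q)

theorem fixes_tm (C : Conj F q) {U : Submodule F (Fin n → F)} {x : Fin n → F} (hx : x ∈ U) (hxx : hh x x = 0)
    {c : F} (hc : C.σ c = -c) : Fixes U (C.tm x c) := fun v hv => C.tm_fix hxx hc (hv x hx)

variable (hF : Fintype.card F = q ^ 2)
include hF

/-- Inside a totally isotropic line `⟨x, e⟩` there is a point whose transvection group fixes a vector moved by
the one of `x`. -/
theorem exists_line_point {U : Submodule F (Fin n → F)} {P : Submodule ℂ W} (hP : Inv ρ U P)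
    {x y e e' : Fin n → F} (hxy : Pair (q := q) U x y) (hee : Pair (q := q) (perp2 (conj hF) U x y) e e')
    (hmove : Moved ρ (conj hF) x P) :
    ∃ t : F, Moved ρ (conj hF) x (P ⊓ fixed ρ (conj hF) (e + t • x)) := by
  classical
  let C := conj hF
  obtain ⟨heU, hex, hey⟩ := mem_perp2.mp hee.hx
  have hxe : hh x e = 0 := C.flip_zero hex
  obtain ⟨c₀, w₀, hw₀, hne⟩ := hmove
  -- the family: transvections at `x`, at `e`, and the cross elements
  have ho : Conj.Orth2 (q := q) x e := ⟨hxy.hxx, hee.hxx, hxe⟩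
  let gen : Skew C ⊕ Skew C ⊕ F → GG := fun i =>
    Sum.elim (fun c => C.tm x c.1) (Sum.elim (fun c => C.tm e c.1) (fun p => C.rt x e p)) i
  have hfix : ∀ i, Fixes U (gen i) := by
    rintro (c | c | p)
    · exact fixes_tm C hxy.hx hxy.hxx c.2
    · exact fixes_tm C heU hee.hxx c.2
    · exact fun v hv => C.rt_fix ho p (hv x hxy.hx) (hv e heU)
  have hact : ∀ i, ∃ a b d f : F, ∀ z, mat (gen i) *ᵥ z = z + (a * hh z x + b * hh z e) • x +
      (d * hh z x + f * hh z e) • e := by
    rintro (c | c | p)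
    · refine ⟨c.1, 0, 0, 0, fun z => ?_⟩
      show mat (C.tm x c.1) *ᵥ z = _
      rw [C.tm_mulVec hxy.hxx c.2]; module
    · refine ⟨0, 0, 0, c.1, fun z => ?_⟩
      show mat (C.tm e c.1) *ᵥ z = _
      rw [C.tm_mulVec hee.hxx c.2]; module
    · refine ⟨0, -(C.σ p), p, 0, fun z => ?_⟩
      show mat (C.rt x e p) *ᵥ z = _
      rw [C.rt_mulVec ho]; module
  have hgcomm : ∀ i j, gen i * gen j = gen j * gen i := by
    intro i j
    obtain ⟨a, b, d, f, hi⟩ := hact i
    obtain ⟨a', b', d', f', hj⟩ := hact j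
    refine su_ext fun z => ?_
    rw [mulVec_mul, mulVec_mul, hi, hj, hj, hi]
    simp only [C.add_left, C.smul_left, hxy.hxx, hee.hxx, hxe, hex]
    module
  let f : Skew C ⊕ Skew C ⊕ F → P →ₗ[ℂ] P := fun i => (ρ (gen i)).restrict (hP _ (hfix i))
  have hcomm : ∀ i j, Commute (f i) (f j) := fun i j => LinearMap.ext fun z => Subtype.ext <| by
    show ρ (gen i) (ρ (gen j) z) = ρ (gen j) (ρ (gen i) z)
    rw [← rep_mul, ← rep_mul, hgcomm]
  have hfin : f (Sum.inl c₀) ^ (ringChar F) = 1 := by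
    have hpw : ∀ k : ℕ, C.tm x c₀.1 ^ k = C.tm x ((k : F) * c₀.1) := by
      intro k
      induction k with
      | zero => simp [C.tm_zero hxy.hxx]
      | succ k ih =>
        rw [pow_succ, ih, C.tm_mul hxy.hxx (by rw [map_mul, map_natCast, c₀.2, mul_neg]) c₀.2]
        congr 1
        push_cast
        ring
    have hfpow : ∀ k : ℕ, ∀ z : P, ((f (Sum.inl c₀)) ^ k) z = ρ (gen (Sum.inl c₀) ^ k) z := by
      intro k
      induction k with
      | zero => intro z; simp
      | succ k ih =>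
        intro z
        rw [pow_succ, Module.End.mul_apply, ih, pow_succ, rep_mul]
        rfl
    refine LinearMap.ext fun z => Subtype.ext ?_
    rw [hfpow, show gen (Sum.inl c₀) = C.tm x c₀.1 from rfl, hpw, ringChar.Nat.cast_ringChar, zero_mul,
      C.tm_zero hxy.hxx, map_one]
    rfl
  have hp : ((ringChar F : ℕ) : ℂ) ≠ 0 := by
    obtain ⟨k, hp, -⟩ := FiniteField.card F (ringChar F)
    exact_mod_cast hp.ne_zero
  obtain ⟨v, χ, hv0, hχ, hv⟩ := exists_nontrivial_eigen f hcomm (Sum.inl c₀) hp hfin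
    (fun h => hne (congrArg Subtype.val (LinearMap.congr_fun h ⟨w₀, hw₀⟩)))
  have hv0' : (v : W) ≠ 0 := fun h => hv0 (Subtype.ext h)
  let ev : GG → ℂ → Prop := fun g r => ρ g v.1 = r • v.1
  have hev : ∀ i, ev (gen i) (χ i) := fun i => congrArg Subtype.val (hv i)
  have hevu : ∀ {g : GG} {r s : ℂ}, ev g r → ev g s → r = s := fun {g r s} h1 h2 =>
    smul_left_injective ℂ hv0' (h1.symm.trans h2)
  have hevm : ∀ {g k : GG} {r s : ℂ}, ev g r → ev k s → ev (g * k) (r * s) := fun {g k r s} h1 h2 => by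
    show ρ (g * k) v.1 = _
    rw [rep_mul, h2, map_smul, h1, smul_smul, mul_comm]
  have hev1 : ev 1 1 := by show ρ 1 v.1 = _; rw [map_one, one_smul]; rfl
  -- a character of `F` invariant under the conjugation
  obtain ⟨ψ₀, hψ₀⟩ := AddChar.exists_apply_ne_zero.mpr (one_ne_zero (α := F))
  obtain ⟨r₀, hr₀⟩ := exists_trace_one hF
  let lam : AddChar F ℂ := ψ₀.compAddMonoidHom (AddMonoidHom.mk' (fun r => r + C.σ r) fun a b => by
    rw [map_add]; ring)
  have hlam : lam ≠ 1 := fun h => hψ₀ (by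
    have := DFunLike.congr_fun h r₀
    simpa [lam, hr₀, C] using this)
  have hlamσ : ∀ r, lam (C.σ r) = lam r := fun r => by
    show ψ₀ (C.σ r + C.σ (C.σ r)) = ψ₀ (r + C.σ r)
    rw [C.hσ2, add_comm]
  let sk : F → Skew C := fun r => ⟨r - C.σ r, C.trace_zero_sub_conj r⟩
  -- the parameters of the eigencharacter
  have hpar : ∀ (a : Fin n → F) (haa : hh a a = 0) (χa : Skew C → ℂ), (∀ c, ev (C.tm a c.1) (χa c)) →
      ∃ g : F, C.σ g = -g ∧ ∀ r, χa (sk r) = lam (g * r) := by
    intro a haa χa ha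
    obtain ⟨g, hg⟩ := exists_mulShift lam hlam (fun r => χa (sk r))
      (hevu (ha (sk 0)) (by rw [show (sk 0).1 = 0 by simp [sk], C.tm_zero haa]; exact hev1))
      (fun r s => hevu (ha (sk (r + s))) (by
        rw [show (sk (r + s)).1 = (sk r).1 + (sk s).1 by simp [sk]; ring, ← C.tm_mul haa (sk r).2 (sk s).2]
        exact hevm (ha (sk r)) (ha (sk s))))
    refine ⟨g, mulShift_left_cancel lam hlam fun r => ?_, hg⟩
    have h1 : χa (sk (C.σ r)) = χa (sk (-r)) := congrArg χa (Subtype.ext (by simp [sk, C.hσ2]; ring))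
    rw [hg, hg, ← hlamσ, map_mul, C.hσ2] at h1
    rw [h1, mul_neg, neg_mul]
  obtain ⟨gx, hgx, hgx'⟩ := hpar x hxy.hxx (fun c => χ (Sum.inl c)) (fun c => hev (Sum.inl c))
  obtain ⟨ge, hge, hge'⟩ := hpar e hee.hxx (fun c => χ (Sum.inr (Sum.inl c)))
    (fun c => hev (Sum.inr (Sum.inl c)))
  obtain ⟨β, hβ⟩ := exists_mulShift lam hlam (fun p => χ (Sum.inr (Sum.inr p)))
    (hevu (hev (Sum.inr (Sum.inr 0))) (by
      rw [show gen (Sum.inr (Sum.inr 0)) = 1 from C.rt_zero ho]; exact hev1))
    (fun p p' => hevu (hev (Sum.inr (Sum.inr (p + p')))) (by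
      rw [show gen (Sum.inr (Sum.inr (p + p'))) = gen (Sum.inr (Sum.inr p)) * gen (Sum.inr (Sum.inr p')) from
        (C.rt_add ho p p').symm]
      exact hevm (hev _) (hev _)))
  have hgx0 : gx ≠ 0 := by
    intro h0
    obtain ⟨r, hr⟩ := exists_skew_sub hF c₀.2
    refine hχ ?_
    rw [show c₀ = sk r from Subtype.ext hr.symm, hgx', h0, zero_mul, AddChar.map_zero_eq_one]
  -- solve for the point
  obtain ⟨b, hbdef⟩ : ∃ b, b = β / gx := ⟨_, rfl⟩
  have hfixed : C.σ (b * C.σ b - ge / gx) = b * C.σ b - ge / gx := by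
    rw [map_sub, C.norm_fixed, map_div₀, hge, hgx, neg_div_neg_eq]
  obtain ⟨u, hu⟩ : ∃ u, u * C.σ u = b * C.σ b - ge / gx := by
    by_cases h0 : b * C.σ b - ge / gx = 0
    · exact ⟨0, by rw [h0, zero_mul]⟩
    · obtain ⟨u, -, hu⟩ := exists_norm hF hfixed h0
      exact ⟨u, hu⟩
  let t := u - b
  refine ⟨t, c₀, v.1, ⟨v.2, fun c => ?_⟩, fun h => hχ (hevu (hev (Sum.inl c₀)) (by
    show ρ (C.tm x c₀.1) v.1 = (1 : ℂ) • v.1
    rw [one_smul]; exact h))⟩
  obtain ⟨r, hr⟩ := exists_skew_sub hF c.2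
  have hez : hh (e + t • x) (e + t • x) = 0 := by
    simp [C.add_left, C.add_right, C.smul_left, C.smul_right, hee.hxx, hxy.hxx, hex, hxe]
  have hc2 : C.σ c.1 = -c.1 := c.2
  have hkey : C.tm (e + t • x) c.1 = C.tm e c.1 * (C.tm x (c.1 * (t * C.σ t)) * C.rt x e (c.1 * C.σ t)) := by
    refine su_ext fun z => ?_
    simp only [mulVec_mul, C.tm_mulVec hez c.2, C.tm_mulVec hee.hxx c.2,
      C.tm_mulVec hxy.hxx (C.trace_zero_mul c.2 (C.norm_fixed t)), C.rt_mulVec ho, C.add_left, C.add_right,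
      C.sub_left, C.smul_left, C.smul_right, hxy.hxx, hee.hxx, hxe, hex, map_mul, C.hσ2, hc2]
    module
  have h1 : ev (C.tm (e + t • x) c.1) (χ (Sum.inr (Sum.inl (sk r))) *
      (χ (Sum.inl (sk (r * (t * C.σ t)))) * χ (Sum.inr (Sum.inr ((r - C.σ r) * C.σ t))))) := by
    rw [hkey]
    refine hevm ?_ (hevm ?_ ?_)
    · rw [show c.1 = (sk r).1 from hr.symm]; exact hev (Sum.inr (Sum.inl (sk r)))
    · rw [show c.1 * (t * C.σ t) = (sk (r * (t * C.σ t))).1 by
        simp only [sk]; rw [map_mul, C.norm_fixed, ← hr]; ring]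
      exact hev (Sum.inl _)
    · rw [← hr]; exact hev (Sum.inr (Sum.inr _))
  show ρ (C.tm (e + t • x) c.1) v.1 = v.1
  refine h1.trans ?_
  rw [hge', hgx', hβ]
  have h2 : lam (β * ((r - C.σ r) * C.σ t)) = lam ((β * C.σ t - C.σ β * t) * r) := by
    rw [show β * ((r - C.σ r) * C.σ t) = β * r * C.σ t + -(β * C.σ r * C.σ t) by ring,
      AddChar.map_add_eq_mul, ← hlamσ (-(β * C.σ r * C.σ t)), ← AddChar.map_add_eq_mul]
    congr 1
    simp [C.hσ2]
    ring
  rw [h2, ← AddChar.map_add_eq_mul, ← AddChar.map_add_eq_mul]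
  have h3 : ge * r + (gx * (r * (t * C.σ t)) + (β * C.σ t - C.σ β * t) * r) = 0 := by
    have h4 : ge + gx * (t * C.σ t) + (β * C.σ t - C.σ β * t) = 0 := by
      have hb' : C.σ b = -(C.σ β / gx) := by simp only [hbdef, map_div₀, hgx, div_neg]
      have h5 : t * C.σ t + b * C.σ t + C.σ b * t + ge / gx = 0 := by
        simp only [t, map_sub]
        linear_combination hu
      rw [hb'] at h5
      rw [hbdef] at h5
      field_simp at h5
      linear_combination h5
    linear_combination r * h4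
  rw [h3, AddChar.map_zero_eq_one, one_smul]

/-- The recursion. -/
theorem bound : ∀ (k : ℕ), 3 ≤ k → ∀ (U : Submodule F (Fin n → F)) (P : Submodule ℂ W) (x : Fin n → F),
    Nondeg q U → finrank F U = k → Inv ρ U P → x ∈ U → x ≠ 0 → hh x x = 0 → Moved ρ (conj hF) x P →
    q ^ k ≤ (q + 1) * finrank ℂ P + (if Even k then 1 else q) := by
  intro k
  induction k using Nat.strong_induction_on with
  | _ k ih =>
    intro hk U P x hU hdim hP hx hx0 hxx hmove
    have hq := CfsgLib.ClassicalGroups.herm_two_le hF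
    obtain ⟨y, hy, hyy, hxy⟩ := exists_partner hF hU hx hx0 hxx
    have hpair : Pair (q := q) U x y := ⟨hx, hy, hxx, hyy, hxy⟩
    -- the orbit part at any moved isotropic point
    have horb : ∀ (z t : Fin n → F), Pair (q := q) U z t → Moved ρ (conj hF) z P →
        finrank ℂ (P ⊓ fixed ρ (conj hF) z : Submodule ℂ W) + (q - 1) * q ^ (k - 2) ≤ finrank ℂ P := by
      intro z t hzt hzm
      have hm : finrank F (perp2 (conj hF) U z t) = k - 2 := by
        have := finrank_perp2 hF hzt; omega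
      have hne : perp2 (conj hF) U z t ≠ ⊥ := fun e => by
        rw [e, finrank_bot] at hm; omega
      obtain ⟨a, ha, haa⟩ := exists_aniso hF (nondeg_perp2 hF hU hzt) hne
      exact count_bound hF hzt.hxx (fun c => hP _ (fixes_tm _ hzt.hx hzt.hxx c.2)) hzm
        (fun s hs => by
          obtain ⟨g, hg, hgz⟩ := exists_scale_aniso hF hzt ha haa hs
          exact ⟨g, hgz, hP g hg⟩)
        (fun θ hθ hθne => eigsp_bound hF hU hP hzt hm θ hθ hθne)
    by_cases hk3 : k = 3
    · subst hk3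
      have := horb x y hpair hmove
      rw [if_neg (by decide)]
      obtain ⟨r, rfl⟩ : ∃ r, q = r + 1 := ⟨q - 1, by omega⟩
      simp only [Nat.add_sub_cancel, show (3 : ℕ) - 2 = 1 from rfl, pow_one] at this
      nlinarith
    -- an orthogonal isotropic point whose fixed space is moved at `x`
    have hm : finrank F (perp2 (conj hF) U x y) = k - 2 := by
      have := finrank_perp2 hF hpair; omega
    have hU₁ := nondeg_perp2 hF hU hpair
    obtain ⟨e, he, he0, hee⟩ := exists_isotropic hF hU₁ (by omega)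
    obtain ⟨e', he', hee', hee1⟩ := exists_partner hF hU₁ he he0 hee
    have hpe : Pair (q := q) (perp2 (conj hF) U x y) e e' := ⟨he, he', hee, hee', hee1⟩
    obtain ⟨t, htm⟩ := exists_line_point hF hP hpair hpe hmove
    obtain ⟨heU, hex, hey⟩ := mem_perp2.mp he
    obtain ⟨he'U, he'x, he'y⟩ := mem_perp2.mp he'
    set C := conj hF with hC
    have hxe := C.flip_zero hex
    have hxe' := C.flip_zero he'x
    have hye := C.flip_zero hey
    have hye' := C.flip_zero he'y
    have hee2 : hh e' e = 1 := hpe.hyx hF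
    let z := e + t • x
    let y' := y - C.σ t • e'
    have hpz : Pair (q := q) U z e' := ⟨add_mem heU (U.smul_mem t hx), he'U,
      by simp [z, C.add_left, C.add_right, C.smul_left, C.smul_right, hee, hxx, hex, hxe], hee',
      by simp [z, C.add_left, C.smul_left, hee1, hxe']⟩
    have hpx : Pair (q := q) U x y' := ⟨hx, sub_mem hy (U.smul_mem _ he'U), hxx,
      by simp [y', C.sub_left, C.sub_right, C.smul_left, C.smul_right, hyy, hee', hye', he'y],
      by simp [y', C.sub_right, C.smul_right, hxy, hxe']⟩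
    have hzx : hh z x = 0 := by simp [z, C.add_left, C.smul_left, hex, hxx]
    have hzy : hh z y' = 0 := by
      simp [z, y', C.add_left, C.sub_right, C.smul_left, C.smul_right, hey, hxy, hee1, hxe', C.hσ2]
    have he'y' : hh e' y' = 0 := by
      simp [y', C.sub_right, C.smul_right, he'y, hee']
    -- `z` is moved as well
    have hzm : Moved ρ C z P := by
      obtain ⟨g, hg, hgx⟩ := exists_swap hF hpx hpz hzx hzy he'x he'y'
      obtain ⟨c, w, hw, hne⟩ := hmove
      refine ⟨c, ρ g w, hP g hg w hw, fun h => hne ?_⟩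
      rw [← hgx, ← C.conj_tm g hxx c.2, rep_mul, rep_mul, rep_inv'] at h
      rw [← rep_inv' ρ g (ρ (C.tm x c.1) w), h, rep_inv']
    have horbz := horb z e' hpz hzm
    have hxU₂ : x ∈ perp2 C U z e' := mem_perp2.mpr ⟨hx, C.flip_zero hzx, hxe'⟩
    have hm₂ : finrank F (perp2 C U z e') = k - 2 := by
      have := finrank_perp2 hF hpz
      rw [← hC] at this
      omega
    by_cases hk4 : k = 4
    · subst hk4
      have hC1 : finrank ℂ (P ⊓ fixed ρ C z ⊓ fixed ρ C x : Submodule ℂ W) + (q - 1) * 1 ≤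
          finrank ℂ (P ⊓ fixed ρ C z : Submodule ℂ W) := by
        refine count_bound hF hxx ?_ htm ?_ (fun θ _ hne => ?_)
        · rintro c w ⟨hwP, hwz⟩
          refine ⟨hP _ (fixes_tm C hx hxx c.2) w hwP, fun d => ?_⟩
          have : C.tm z d.1 * C.tm x c.1 = C.tm x c.1 * C.tm z d.1 := by
            have h1 := C.conj_tm (C.tm x c.1) hpz.hxx d.2
            rw [C.tm_fix hxx c.2 hzx, mul_inv_eq_iff_eq_mul] at h1
            exact h1.symm
          rw [← rep_mul, this, rep_mul, hwz d]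
        · intro s hs
          obtain ⟨g, hg, hgx, hgz⟩ := exists_scale_pair hF hpx hpz hzx hzy he'x he'y' hs
          refine ⟨g, hgx, ?_⟩
          rintro w ⟨hwP, hwz⟩
          refine ⟨hP g hg w hwP, fun d => ?_⟩
          have := tm_mul_scale (C := C) hpz.hxx (inv_ne_zero hs) hgz d.2
          rw [← rep_mul, this, rep_mul, hwz ⟨_, C.trace_zero_mul d.2 (C.norm_fixed _)⟩]
        · exact Nat.one_le_iff_ne_zero.mpr fun h => hne (Submodule.finrank_eq_zero.mp h)
      rw [if_pos (by decide)]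
      obtain ⟨r, rfl⟩ : ∃ r, q = r + 1 := ⟨q - 1, by omega⟩
      simp only [Nat.add_sub_cancel, show (4 : ℕ) - 2 = 2 from rfl] at horbz hC1
      nlinarith
    have hP₂ : Inv ρ (perp2 C U z e') (P ⊓ fixed ρ C z) := by
      rintro g hg w ⟨hwP, hwz⟩
      refine ⟨hP g (fixes_mono (fun a ha => (mem_perp2.mp ha).1) hg) w hwP, fun d => ?_⟩
      have hgz : mat g *ᵥ z = z := hg z fun a ha => C.flip_zero (mem_perp2.mp ha).2.1
      have : C.tm z d.1 * g = g * C.tm z d.1 := by
        have h1 := C.conj_tm g hpz.hxx d.2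
        rw [hgz, mul_inv_eq_iff_eq_mul] at h1
        exact h1.symm
      rw [← rep_mul, this, rep_mul, hwz d]
    have hrec := ih (k - 2) (by omega) (by omega) (perp2 C U z e') (P ⊓ fixed ρ C z) x
      (nondeg_perp2 hF hU hpz) hm₂ hP₂ hxU₂ hx0 hxx htm
    obtain ⟨m, rfl⟩ : ∃ m, k = m + 2 := ⟨k - 2, by omega⟩
    simp only [Nat.add_sub_cancel] at hrec horbz
    obtain ⟨r, rfl⟩ : ∃ r, q = r + 1 := ⟨q - 1, by omega⟩
    simp only [Nat.add_sub_cancel] at horbz
    have heps : (if Even (m + 2) then 1 else r + 1) = (if Even m then 1 else r + 1) := by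
      by_cases hm' : Even m <;> simp [hm', Nat.even_add]
    rw [heps]
    generalize (if Even m then 1 else r + 1) = ε at hrec ⊢
    rw [pow_add]
    generalize (r + 1) ^ m = A at hrec horbz ⊢
    nlinarith

theorem min_degree {k : ℕ} (hn : 3 ≤ n) (h32 : ¬(n = 3 ∧ q = 2))
    (ρ : Representation ℂ (Cfsg.SU n F q) (Fin k → ℂ)) (hρ : ρ.IsIrreducible) (hk : 2 ≤ k) :
    q ^ n ≤ (q + 1) * k + (if Even n then 1 else q) := by
  classical
  have hdist : ∀ u v : Fin n → F, u ≠ 0 → ∃ w, hh u w = 1 := by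
    intro u _ hu
    obtain ⟨i, hi⟩ := Function.ne_iff.mp hu
    have hi' : u i ≠ 0 := hi
    refine ⟨(conj hF).σ ((u i)⁻¹) • Pi.single i 1, ?_⟩
    rw [(conj hF).smul_right, (conj hF).hσ2, CfsgLib.ClassicalGroups.hermForm_single_right hF n u i]
    field_simp
  obtain ⟨v, c, hv0, hvv, hc, w, hne⟩ : ∃ (v : Fin n → F) (c : F), v ≠ 0 ∧ hh v v = 0 ∧
      (conj hF).σ c = -c ∧ ∃ w, ρ ((conj hF).tm v c) w ≠ w := by
    by_contra hcon
    push Not at hcon
    have htriv : ∀ g, ρ g = 1 := by
      have hle : ρ.ker = ⊤ := by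
        rw [eq_top_iff, ← Cfsg.Agent.S0780.result hF n hn h32, Subgroup.closure_le]
        rintro A ⟨v, c, hv, hA⟩
        rw [SetLike.mem_coe, MonoidHom.mem_ker]
        have hA' : ∀ z, mat A *ᵥ z = z + (c * hh z v) • v := fun z => by
          rw [show mat A = _ from hA, (conj hF).unitaryTransvection_eq, (conj hF).rankOne_mulVec]
        by_cases hv0 : v = 0
        · have : A = 1 := su_ext fun z => by rw [hA', one_act, hv0, smul_zero, add_zero]
          rw [this, map_one]
        obtain ⟨w, hvw⟩ := hdist v v hv0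
        have hwv : hh w v = 1 := by rw [symm_conj hF v w, hvw, map_one]
        have hc : (conj hF).σ c = -c := by
          have h1 := form_mulVec A w w
          rw [hA', (conj hF).add_left, (conj hF).add_right, (conj hF).add_right, (conj hF).smul_left,
            (conj hF).smul_left, (conj hF).smul_right, (conj hF).smul_right, hwv, hvw, hv, mul_one,
            mul_zero, mul_zero, mul_one, mul_one] at h1
          linear_combination h1
        have : A = (conj hF).tm v c := su_ext fun z => by rw [hA', (conj hF).tm_mulVec hv hc]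
        rw [this]
        exact LinearMap.ext fun z => hcon v c hv0 hv hc z
      exact fun g => MonoidHom.mem_ker.mp (hle ▸ Subgroup.mem_top g)
    have := finrank_eq_one_of_trivial ρ hρ htriv
    rw [finrank_pi, Fintype.card_fin] at this
    omega
  have hU : Nondeg q (⊤ : Submodule F (Fin n → F)) := fun u _ hu => by
    obtain ⟨w, hw⟩ := hdist u u hu
    exact ⟨w, trivial, hw⟩
  have hb := bound (ρ := ρ) hF n hn ⊤ ⊤ v hU (by simp) (fun _ _ _ _ => trivial) trivial hv0 hvv
    ⟨⟨c, hc⟩, w, trivial, hne⟩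
  rwa [finrank_top, finrank_pi, Fintype.card_fin] at hb

end CfsgLib.CharBound.SUn
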