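import Cfsg.Agent.Lib.CharBound.SUBasic
import Cfsg.Agent.Lib.CharBound.FixedSum
import Cfsg.Agent.Lib.CharBound.AddChars

set_option autoImplicit false

/-!
Eigenspaces of a transvection group of `SU_n(q)` in a complex representation: their number and the lower bound
`q ^ (k - 2)` on their dimension coming from the Heisenberg group above it.
-/

namespace CfsgLib.CharBound.SUn

open Cfsg Matrix CfsgLib.RegUnipU Module

variable {F : Type*} [Field F] [Fintype F] {n q : ℕ} {W : Type*} [AddCommGroup W] [Module ℂ W]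

local notation "hh" => Cfsg.hermForm n F q
local notation "GG" => (Subtype fun g => g ∈ Cfsg.SU n F q)

variable (ρ : Representation ℂ (Subtype fun g => g ∈ Cfsg.SU n F q) W) (C : Conj F q)

theorem rep_mul (g h : GG) (w : W) : ρ (g * h) w = ρ g (ρ h w) := by
  rw [map_mul]; rfl

theorem rep_inv (g : GG) (w : W) : ρ g (ρ g⁻¹ w) = w := by
  rw [← rep_mul, mul_inv_cancel, map_one]; rfl

theorem rep_inv' (g : GG) (w : W) : ρ g⁻¹ (ρ g w) = w := by
  rw [← rep_mul, inv_mul_cancel, map_one]; rfl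

/-- The parameters of a transvection group. -/
abbrev Skew : Type _ := {c : F // C.σ c = -c}

/-- Invariance under the group attached to `U`. -/
def Inv (U : Submodule F (Fin n → F)) (P : Submodule ℂ W) : Prop :=
  ∀ g : GG, Fixes U g → ∀ w ∈ P, ρ g w ∈ P

/-- The transvection group at `x` moves a vector of `P`. -/
def Moved (x : Fin n → F) (P : Submodule ℂ W) : Prop :=
  ∃ c : Skew C, ∃ w ∈ P, ρ (C.tm x c.1) w ≠ w

/-- The fixed space of a transvection group. -/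
def fixed (x : Fin n → F) : Submodule ℂ W where
  carrier := {w | ∀ c : Skew C, ρ (C.tm x c.1) w = w}
  zero_mem' _ := map_zero _
  add_mem' ha hb c := by rw [map_add, ha c, hb c]
  smul_mem' r _ ha c := by rw [map_smul, ha c]

/-- An eigenspace of a transvection group inside `P`. -/
def eigsp (x : Fin n → F) (P : Submodule ℂ W) (θ : Skew C → ℂ) : Submodule ℂ W where
  carrier := {w | w ∈ P ∧ ∀ c : Skew C, ρ (C.tm x c.1) w = θ c • w}
  zero_mem' := ⟨P.zero_mem, fun c => by rw [map_zero, smul_zero]⟩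
  add_mem' ha hb := ⟨add_mem ha.1 hb.1, fun c => by rw [map_add, ha.2 c, hb.2 c, smul_add]⟩
  smul_mem' r _ ha := ⟨P.smul_mem r ha.1, fun c => by rw [map_smul, ha.2 c, smul_comm]⟩

variable {ρ} {C}

theorem mem_eigsp {x : Fin n → F} {P : Submodule ℂ W} {θ : Skew C → ℂ} {w : W} :
    w ∈ eigsp ρ C x P θ ↔ w ∈ P ∧ ∀ c : Skew C, ρ (C.tm x c.1) w = θ c • w := Iff.rfl

theorem theta_add {x : Fin n → F} (hxx : hh x x = 0) {P : Submodule ℂ W} {θ : Skew C → ℂ} {v : W}
    (hv : v ∈ eigsp ρ C x P θ) (hv0 : v ≠ 0) (c d : Skew C) :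
    θ ⟨c.1 + d.1, C.trace_zero_add c.2 d.2⟩ = θ c * θ d := by
  refine smul_left_injective ℂ hv0 ?_
  show θ _ • v = (θ c * θ d) • v
  rw [← hv.2 ⟨c.1 + d.1, _⟩, ← C.tm_mul hxx c.2 d.2, rep_mul, hv.2 d, map_smul, hv.2 c, smul_smul, mul_comm]

theorem theta_zero {x : Fin n → F} (hxx : hh x x = 0) {P : Submodule ℂ W} {θ : Skew C → ℂ} {v : W}
    (hv : v ∈ eigsp ρ C x P θ) (hv0 : v ≠ 0) : θ ⟨0, by simp⟩ = 1 := by
  refine smul_left_injective ℂ hv0 ?_
  show θ _ • v = (1 : ℂ) • v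
  rw [← hv.2 ⟨0, _⟩, C.tm_zero hxx, map_one, one_smul]
  rfl

/-- Conjugating a transvection past an element scaling its centre. -/
theorem tm_mul_scale {x : Fin n → F} (hxx : hh x x = 0) {s : F} (hs : s ≠ 0) {g : GG}
    (hg : mat g *ᵥ x = s • x) {c : F} (hc : C.σ c = -c) :
    C.tm x c * g = g * C.tm x (c * (s⁻¹ * C.σ s⁻¹)) := by
  have h1 : mat g⁻¹ *ᵥ x = s⁻¹ • x := by
    have h2 := inv_fix hg
    rw [mulVec_smul] at h2
    conv_rhs => rw [← h2]
    rw [smul_smul, inv_mul_cancel₀ hs, one_smul]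
  rw [← C.tm_smul s⁻¹ hxx hc, ← h1, ← C.conj_tm g⁻¹ hxx hc]
  group

variable [FiniteDimensional ℂ W]

/-- The fixed space and `q - 1` eigenspaces. -/
theorem count_bound (hF : Fintype.card F = q ^ 2) {x : Fin n → F} (hxx : hh x x = 0) {P : Submodule ℂ W}
    (hstab : ∀ c : Skew (conj hF), ∀ w ∈ P, ρ ((conj hF).tm x c.1) w ∈ P)
    (hmove : Moved ρ (conj hF) x P)
    (hscale : ∀ s : F, s ≠ 0 → ∃ g : GG, mat g *ᵥ x = s • x ∧ ∀ w ∈ P, ρ g w ∈ P) {d : ℕ}
    (hd : ∀ θ : Skew (conj hF) → ℂ, (∃ c, θ c ≠ 1) → eigsp ρ (conj hF) x P θ ≠ ⊥ →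
      d ≤ finrank ℂ (eigsp ρ (conj hF) x P θ)) :
    finrank ℂ (P ⊓ fixed ρ (conj hF) x : Submodule ℂ W) + (q - 1) * d ≤ finrank ℂ P := by
  classical
  obtain ⟨c₀, w, hw, hne⟩ := hmove
  let f : Skew (conj hF) → P →ₗ[ℂ] P := fun c => (ρ ((conj hF).tm x c.1)).restrict (hstab c)
  have hf : ∀ c, (f c) ^ (ringChar F) = 1 := by
    intro c
    have : ∀ k : ℕ, ∀ z : P, ((f c) ^ k) z = ρ ((conj hF).tm x ((k : F) * c.1)) z := by
      intro k
      induction k with
      | zero => intro z; simp [(conj hF).tm_zero hxx]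
      | succ k ih =>
        intro z
        rw [pow_succ, Module.End.mul_apply, ih]
        show ρ _ (ρ ((conj hF).tm x c.1) z) = _
        rw [← rep_mul, (conj hF).tm_mul hxx (by rw [map_mul, map_natCast, c.2, mul_neg]) c.2]
        congr 3
        push_cast
        ring
    refine LinearMap.ext fun z => Subtype.ext ?_
    rw [this, ringChar.Nat.cast_ringChar, zero_mul, (conj hF).tm_zero hxx, map_one]
    rfl
  have hcomm : ∀ c d, Commute (f c) (f d) := fun c d => LinearMap.ext fun z => Subtype.ext <| by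
    show ρ ((conj hF).tm x c.1) (ρ ((conj hF).tm x d.1) z) = ρ ((conj hF).tm x d.1) (ρ ((conj hF).tm x c.1) z)
    rw [← rep_mul, ← rep_mul, (conj hF).tm_mul hxx c.2 d.2, (conj hF).tm_mul hxx d.2 c.2, add_comm]
  have hp : ((ringChar F : ℕ) : ℂ) ≠ 0 := by
    obtain ⟨k, hp, -⟩ := FiniteField.card F (ringChar F)
    exact_mod_cast hp.ne_zero
  obtain ⟨v, θ₀, hv0, hθ, hv⟩ := exists_nontrivial_eigen f hcomm c₀ hp (hf c₀) (fun h => hne
    (congrArg Subtype.val (LinearMap.congr_fun h ⟨w, hw⟩)))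
  have hv0' : (v : W) ≠ 0 := fun h => hv0 (Subtype.ext h)
  have hvE : (v : W) ∈ eigsp ρ (conj hF) x P θ₀ := ⟨v.2, fun c => congrArg Subtype.val (hv c)⟩
  let ι := {r : F // (conj hF).σ r = r ∧ r ≠ 0}
  let θ : ι → Skew (conj hF) → ℂ := fun r c => θ₀ ⟨c.1 * r.1, (conj hF).trace_zero_mul c.2 r.2.1⟩
  have hθne : ∀ r : ι, ∃ c, θ r c ≠ 1 := fun r => by
    refine ⟨⟨c₀.1 * r.1⁻¹, (conj hF).trace_zero_mul c₀.2 (by rw [map_inv₀, r.2.1])⟩, ?_⟩
    convert hθ using 3
    simp [θ, mul_assoc, inv_mul_cancel₀ r.2.2]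
  have hinj : Function.Injective θ := by
    intro r r' h
    by_contra hne'
    have hd : r.1 - r'.1 ≠ 0 := fun e => hne' (Subtype.ext (sub_eq_zero.mp e))
    have hds : (conj hF).σ (r.1 - r'.1) = r.1 - r'.1 := by rw [map_sub, r.2.1, r'.2.1]
    let c : Skew (conj hF) := ⟨c₀.1 * (r.1 - r'.1)⁻¹, (conj hF).trace_zero_mul c₀.2 (by rw [map_inv₀, hds])⟩
    have h1 := congrFun h c
    have h2 : θ r c = θ₀ c₀ * θ r' c := by
      rw [← theta_add hxx hvE hv0']
      refine congrArg θ₀ (Subtype.ext ?_)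
      show c.1 * r.1 = c₀.1 + c.1 * r'.1
      simp only [c]
      field_simp
      ring
    have hne0 : θ r' c ≠ 0 := by
      intro e
      have h3 := hvE.2 ⟨c.1 * r'.1, (conj hF).trace_zero_mul c.2 r'.2.1⟩
      rw [show θ₀ _ = θ r' c from rfl, e, zero_smul] at h3
      exact hv0' (by rw [← rep_inv' ρ ((conj hF).tm x (c.1 * r'.1)) (v : W)]; rw [h3, map_zero])
    rw [h1] at h2
    exact hθ (mul_right_cancel₀ hne0 (h2.symm.trans (one_mul _).symm))
  have hne_bot : ∀ r : ι, eigsp ρ (conj hF) x P (θ r) ≠ ⊥ := by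
    intro r
    obtain ⟨s, hs, hNs⟩ := exists_norm hF (c := r.1⁻¹) (by rw [map_inv₀, r.2.1]) (inv_ne_zero r.2.2)
    obtain ⟨g, hg, hgP⟩ := hscale s hs
    have hmem : ρ g v ∈ eigsp ρ (conj hF) x P (θ r) := by
      refine ⟨hgP _ v.2, fun c => ?_⟩
      have he : s⁻¹ * (conj hF).σ s⁻¹ = r.1 := by rw [map_inv₀, ← mul_inv, hNs, inv_inv]
      rw [← rep_mul, tm_mul_scale hxx hs hg c.2, rep_mul, he,
        hvE.2 ⟨c.1 * r.1, (conj hF).trace_zero_mul c.2 r.2.1⟩, map_smul]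
    intro h
    rw [h, Submodule.mem_bot] at hmem
    exact hv0' (by rw [← rep_inv' ρ g (v : W), hmem, map_zero])
  have := finrank_add_card_mul_le (fun c : Skew (conj hF) => ρ ((conj hF).tm x c.1)) θ hinj P
    (P ⊓ fixed ρ (conj hF) x) (fun r => eigsp ρ (conj hF) x P (θ r)) inf_le_left (fun r w h => h.1)
    (fun r w h c => h.2 c)
    (fun r => by
      obtain ⟨c, hc⟩ := hθne r
      exact ⟨c, hc, fun w h => h.2 c⟩)
    (fun r => hd _ (hθne r) (hne_bot r))
  rwa [← Nat.card_eq_fintype_card, card_fixed_units hF] at this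

/-- The Heisenberg group forces eigenspaces of dimension `q ^ m`. -/
theorem eigsp_bound (hF : Fintype.card F = q ^ 2) {U : Submodule F (Fin n → F)} (hU : Nondeg q U)
    {P : Submodule ℂ W} (hP : Inv ρ U P) {x y : Fin n → F} (h : Pair (q := q) U x y) {m : ℕ}
    (hm : finrank F (perp2 (conj hF) U x y) = m) (θ : Skew (conj hF) → ℂ) (hθ : ∃ c, θ c ≠ 1)
    (hne : eigsp ρ (conj hF) x P θ ≠ ⊥) : q ^ m ≤ finrank ℂ (eigsp ρ (conj hF) x P θ) := by
  classical
  obtain ⟨c₁, hc₁⟩ := hθ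
  obtain ⟨r₀, hr₀⟩ := exists_trace_one hF
  have hsol : ∀ w : perp2 (conj hF) U x y, ∃ g : GG, IsE x (-(hh w.1 w.1 * r₀)) w.1 g := fun w =>
    exists_isE hF h.hxx (mem_perp2.mp w.2).2.1 (by
      rw [map_neg, map_mul, self_fixed hF]
      linear_combination (-(hh w.1 w.1)) * hr₀)
  choose g hg using hsol
  let Eθ := eigsp ρ (conj hF) x P θ
  have hgfix : ∀ w, Fixes U (g w) := fun w => isE_fixes hF h.hx (mem_perp2.mp w.2).1 (hg w)
  have hstab : ∀ w, ∀ z ∈ Eθ, ρ (g w) z ∈ Eθ := fun w z hz => by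
    refine ⟨hP _ (hgfix w) z hz.1, fun c => ?_⟩
    rw [← rep_mul, ← isE_tm_comm hF h.hxx (mem_perp2.mp w.2).2.1 (hg w) c.2, rep_mul, hz.2 c, map_smul]
  have hstab' : ∀ w, ∀ z ∈ Eθ, ρ (g w)⁻¹ z ∈ Eθ := fun w z hz => by
    refine ⟨hP _ (fixes_inv (hgfix w)) z hz.1, fun c => ?_⟩
    have hcomm : (conj hF).tm x c.1 * (g w)⁻¹ = (g w)⁻¹ * (conj hF).tm x c.1 := by
      rw [eq_inv_mul_iff_mul_eq, ← mul_assoc, isE_tm_comm hF h.hxx (mem_perp2.mp w.2).2.1 (hg w) c.2,
        mul_inv_cancel_right]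
    rw [← rep_mul, hcomm, rep_mul, hz.2 c, map_smul]
  let X : perp2 (conj hF) U x y → (Eθ →ₗ[ℂ] Eθ)ˣ := fun w =>
    ⟨(ρ (g w)).restrict (hstab w), (ρ (g w)⁻¹).restrict (hstab' w),
      LinearMap.ext fun z => Subtype.ext (rep_inv ρ (g w) z.1),
      LinearMap.ext fun z => Subtype.ext (rep_inv' ρ (g w) z.1)⟩
  let cw : perp2 (conj hF) U x y → perp2 (conj hF) U x y → Skew (conj hF) := fun w u =>
    ⟨hh w.1 u.1 - hh u.1 w.1, by rw [map_sub, ← (conj hF).flip, ← (conj hF).flip]; ring⟩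
  haveI : Nontrivial Eθ := Submodule.nontrivial_iff_ne_bot.mpr hne
  obtain ⟨v, hv, hv0⟩ := Submodule.exists_mem_ne_zero_of_ne_bot hne
  have hinj : Function.Injective fun (u w : perp2 (conj hF) U x y) => θ (cw w u) := by
    intro u u' he
    by_contra hne'
    obtain ⟨z, hz, hdz⟩ := nondeg_perp2 hF hU h (u.1 - u'.1) (sub_mem u.2 u'.2)
      (fun e => hne' (Subtype.ext (sub_eq_zero.mp e)))
    have hzd : hh z (u.1 - u'.1) = 1 := by rw [symm_conj hF, hdz, map_one]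
    obtain ⟨r, hr⟩ := exists_skew_sub hF c₁.2
    let w : perp2 (conj hF) U x y := ⟨r • z, (perp2 (conj hF) U x y).smul_mem r hz⟩
    have h1 := congrFun he w
    have h2 : θ (cw w u) = θ c₁ * θ (cw w u') := by
      rw [← theta_add h.hxx hv hv0]
      refine congrArg θ (Subtype.ext ?_)
      show hh (r • z) u.1 - hh u.1 (r • z) = c₁.1 + (hh (r • z) u'.1 - hh u'.1 (r • z))
      rw [(conj hF).sub_right] at hzd
      rw [(conj hF).sub_left] at hdz
      rw [(conj hF).smul_left, (conj hF).smul_left, (conj hF).smul_right, (conj hF).smul_right, ← hr]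
      linear_combination r * hzd - (conj hF).σ r * hdz
    simp only at h1
    rw [h1] at h2
    have hne0 : θ (cw w u') ≠ 0 := fun e => by
      have h3 := hv.2 (cw w u')
      rw [e, zero_smul] at h3
      exact hv0 (by rw [← rep_inv' ρ ((conj hF).tm x (cw w u').1) v, h3, map_zero])
    exact hc₁ (mul_right_cancel₀ hne0 (h2.symm.trans (one_mul _).symm))
  have hb := card_le_finrank_sq (V := Eθ) X X (fun u w => θ (cw w u)) hinj fun u w => by
    refine LinearMap.ext fun z => Subtype.ext ?_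
    show ρ (g w) (ρ (g u) (ρ (g w)⁻¹ z.1)) = θ (cw w u) • ρ (g u) z.1
    rw [← rep_mul, isE_comm hF h.hxx (mem_perp2.mp w.2).2.1 (mem_perp2.mp u.2).2.1 (hg w) (hg u), rep_mul,
      rep_mul, rep_inv]
    exact (hstab u z.1 z.2).2 (cw w u)
  rw [← Nat.card_eq_fintype_card, Module.natCard_eq_pow_finrank (K := F), hm, Nat.card_eq_fintype_card, hF,
    ← pow_mul, mul_comm 2 m, pow_mul, ← pow_two] at hb
  exact (Nat.pow_le_pow_iff_left two_ne_zero).mp hb

end CfsgLib.CharBound.SUn
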