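import Cfsg.Agent.Lib.CharBound.Cross

set_option autoImplicit false

/-! The bound `q ^ (n - 1) (q - 1) / 2` for representations of `Sp_2n(q)` in cross characteristic. -/

namespace CfsgLib.CharBound

open Matrix
open scoped MatrixGroups

variable {F : Type*} [Field F]

/-- The symmetric matrix with first row and column `s`. -/
def hookMat {n : ℕ} (z : Fin n) (s : Fin n → F) : Matrix (Fin n) (Fin n) F :=
  Matrix.of fun i j => if i = z then s j else if j = z then s i else 0

theorem hookMat_add {n : ℕ} (z : Fin n) (s t : Fin n → F) : hookMat z (s + t) = hookMat z s + hookMat z t := by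
  ext i j; simp [hookMat]; split_ifs <;> simp

theorem hookMat_transpose {n : ℕ} (z : Fin n) (s : Fin n → F) : (hookMat z s)ᵀ = hookMat z s := by
  ext i j; simp [hookMat]; split_ifs <;> simp_all

/-- `[[1, S], [0, 1]]` for hook matrices `S`, inside the symplectic group. -/
def hookUni {n : ℕ} (z : Fin n) : Multiplicative (Fin n → F) →* Matrix.symplecticGroup (Fin n) F where
  toFun s := ⟨fromBlocks 1 (hookMat z (Multiplicative.toAdd s)) 0 1, by
    rw [SymplecticGroup.mem_iff, Matrix.J, fromBlocks_transpose, fromBlocks_multiply, fromBlocks_multiply]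
    simp [hookMat_transpose]⟩
  map_one' := Subtype.ext (by
    change fromBlocks 1 (hookMat z (0 : Fin n → F)) 0 1 = (1 : Matrix (Fin n ⊕ Fin n) (Fin n ⊕ Fin n) F)
    rw [show hookMat z (0 : Fin n → F) = 0 by ext i j; simp [hookMat], fromBlocks_one])
  map_mul' s t := Subtype.ext (by
    change fromBlocks _ _ _ _ = fromBlocks _ _ _ _ * fromBlocks _ _ _ _
    rw [fromBlocks_multiply, toAdd_mul, hookMat_add]
    simp [add_comm])

/-- Identity with row `z` replaced: entry `a` at `(z, z)` and `x j` at `(z, j)`. -/
def rowShear {n : ℕ} (z : Fin n) (a : F) (x : Fin n → F) : Matrix (Fin n) (Fin n) F :=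
  (1 : Matrix (Fin n) (Fin n) F).updateRow z (Function.update x z a)

theorem rowShear_mul {n : ℕ} (z : Fin n) (a : F) (x : Fin n → F) (b : F) (y : Fin n → F) :
    rowShear z a x * rowShear z b y =
      rowShear z (a * b) (fun j => a * y j + x j) := by
  classical
  ext i j
  by_cases hi : i = z
  · subst hi
    rw [Matrix.mul_apply, ← Finset.add_sum_erase _ _ (Finset.mem_univ i)]
    by_cases hj : j = i
    · subst hj
      rw [Finset.sum_eq_zero (fun k hk => by
        simp [rowShear, Matrix.updateRow_apply, Finset.ne_of_mem_erase hk])]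
      simp [rowShear]
    · rw [Finset.sum_eq_single j (fun k hk hkj => by
        simp [rowShear, Matrix.updateRow_apply, Finset.ne_of_mem_erase hk, hkj])
        (fun h => absurd (Finset.mem_erase.mpr ⟨hj, Finset.mem_univ j⟩) h)]
      simp [rowShear, Matrix.updateRow_apply, hj]
  · rw [Matrix.mul_apply, Finset.sum_eq_single i (fun k _ hk => by
      simp [rowShear, Matrix.updateRow_apply, hi, Ne.symm hk]) (by simp)]
    simp [rowShear, Matrix.updateRow_apply, hi]

theorem rowShear_one {n : ℕ} (z : Fin n) : rowShear z (1 : F) 0 = 1 := by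
  ext i j
  by_cases hi : i = z
  · subst hi
    by_cases hj : j = i
    · subst hj; simp [rowShear]
    · simp [rowShear, hj, Matrix.one_apply_ne (Ne.symm hj)]
  · simp [rowShear, Matrix.updateRow_apply, hi]

/-- The transformation of the parameters induced by a shear. -/
def hookAct {n : ℕ} (z : Fin n) (a : F) (x : Fin n → F) (s : Fin n → F) : Fin n → F :=
  Function.update (a • s) z (a * a * s z + 2 * a * ∑ j ∈ Finset.univ.erase z, x j * s j)

theorem rowShear_hookMat {n : ℕ} (z : Fin n) (a : F) (x s : Fin n → F) :
    rowShear z a x * hookMat z s * (rowShear z a x)ᵀ = hookMat z (hookAct z a x s) := by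
  classical
  have rowz : ∀ j, (rowShear z a x * hookMat z s) z j =
      if j = z then a * s z + ∑ k ∈ Finset.univ.erase z, x k * s k else a * s j := by
    intro j
    rw [Matrix.mul_apply, ← Finset.add_sum_erase _ _ (Finset.mem_univ z)]
    by_cases hj : j = z
    · subst hj
      rw [if_pos rfl]
      congr 1
      · simp [rowShear, hookMat]
      · refine Finset.sum_congr rfl fun k hk => ?_
        simp [rowShear, hookMat, Finset.ne_of_mem_erase hk]
    · rw [if_neg hj, Finset.sum_eq_zero (fun k hk => by
        simp [hookMat, Finset.ne_of_mem_erase hk, hj])]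
      simp [rowShear, hookMat]
  have rowi : ∀ i, i ≠ z → ∀ j, (rowShear z a x * hookMat z s) i j = hookMat z s i j := by
    intro i hi j
    rw [Matrix.mul_apply, Finset.sum_eq_single i (fun k _ hk => by
      simp [rowShear, Matrix.updateRow_apply, hi, Ne.symm hk]) (by simp)]
    simp [rowShear, Matrix.updateRow_apply, hi]
  ext i j
  rw [Matrix.mul_apply]
  by_cases hj : j = z
  · subst hj
    rw [← Finset.add_sum_erase _ _ (Finset.mem_univ j)]
    by_cases hi : i = j
    · subst hi
      have h1 : ∑ k ∈ Finset.univ.erase i, (rowShear i a x * hookMat i s) i k * (rowShear i a x)ᵀ k i =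
          a * ∑ k ∈ Finset.univ.erase i, x k * s k := by
        rw [Finset.mul_sum]
        refine Finset.sum_congr rfl fun k hk => ?_
        rw [rowz, if_neg (Finset.ne_of_mem_erase hk)]
        simp [rowShear, Finset.ne_of_mem_erase hk]
        ring
      rw [h1, rowz, if_pos rfl]
      simp [rowShear, hookMat, hookAct]
      ring
    · rw [Finset.sum_eq_zero (fun k hk => by
        rw [rowi i hi]; simp [hookMat, hi, Finset.ne_of_mem_erase hk])]
      rw [rowi i hi]
      simp [rowShear, hookMat, hookAct, hi]
      ring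
  · rw [Finset.sum_eq_single j (fun k _ hk => by
      simp [rowShear, Matrix.updateRow_apply, hj, Ne.symm hk]) (by simp)]
    by_cases hi : i = z
    · subst hi
      rw [rowz, if_neg hj]
      simp [rowShear, Matrix.updateRow_apply, hookMat, hookAct, hj]
    · rw [rowi i hi]
      simp [rowShear, Matrix.updateRow_apply, hookMat, hi, hj]

variable [Fintype F]

theorem sp_cross_char_bound (hodd : Odd (Fintype.card F)) {n : ℕ} (hn : 2 ≤ n)
    {K : Type*} [Field K] (hK : ringChar K ≠ ringChar F) {d : ℕ}
    (ρ : Matrix.symplecticGroup (Fin n) F →* GL (Fin d) K)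
    (hker : ρ.ker ≤ Subgroup.center (Matrix.symplecticGroup (Fin n) F)) :
    Fintype.card F ^ (n - 1) * (Fintype.card F - 1) / 2 ≤ d := by
  classical
  haveI : Fact (ringChar F).Prime := by
    obtain ⟨k, hp, -⟩ := FiniteField.card F (ringChar F)
    exact ⟨hp⟩
  have h2 : (2 : F) ≠ 0 :=
    Ring.two_ne_zero fun h => by
      have := FiniteField.even_card_iff_char_two.mp h
      rcases hodd with ⟨k, hk⟩
      omega
  let z : Fin n := ⟨0, by omega⟩
  let w : Fin n := ⟨1, by omega⟩
  have hne : ρ (hookUni z (.ofAdd (Pi.single z 1))) ≠ 1 := by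
    intro h
    let Jm : Matrix.symplecticGroup (Fin n) F := ⟨Matrix.J (Fin n) F, SymplecticGroup.J_mem _ _⟩
    have := congrArg (fun g : Matrix.symplecticGroup (Fin n) F =>
      (g : Matrix (Fin n ⊕ Fin n) (Fin n ⊕ Fin n) F) (Sum.inl z) (Sum.inl z))
      (Subgroup.mem_center_iff.mp (hker h) Jm)
    simp [hookUni, Jm, Matrix.J, Matrix.fromBlocks_multiply, hookMat] at this
  obtain ⟨L, _, χ, hχa, hbound⟩ := exists_char_orbit_bound (F := F) (p := ringChar F)
    (natCast_ne_zero_of_ringChar_ne hK) ρ (hookUni z) _ hne
  let lam : AddChar F L := χ.compAddMonoidHom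
    (AddMonoidHom.mk' (fun c => Pi.single z c) (fun a b => Pi.single_add (f := fun _ : Fin n => F) z a b))
  have hlam : ∃ c, lam c ≠ 1 := ⟨1, hχa⟩
  obtain ⟨u, hu⟩ := exists_eq_dotProduct lam hlam χ
  have huz : u z ≠ 0 := fun h => by
    refine hχa ?_
    rw [hu, dotProduct_single, h, zero_mul, AddChar.map_zero_eq_one]
  -- the index set: non-zero squares times vectors off `z`
  let sq : Fˣ →* Fˣ := powMonoidHom 2
  let J := {j : Fin n // j ≠ z}
  let ι := sq.range × (J → F)
  have hroot : ∀ c : sq.range, ∃ a : Fˣ, a ^ 2 = c.1 := fun c => c.2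
  choose root hroot using hroot
  let xv : ι → Fin n → F := fun i j => if h : j = z then 0 else
    (i.2 ⟨j, h⟩ - (root i.1 : F) * u j) / (2 * (root i.1 : F) * u z)
  let g : ι → Matrix.symplecticGroup (Fin n) F := fun i =>
    ⟨fromBlocks (rowShear z (root i.1 : F) (xv i)) 0 0
      (rowShear z ((root i.1 : F)⁻¹) (fun j => -((root i.1 : F)⁻¹) * xv i j))ᵀ, by
      rw [SymplecticGroup.mem_iff, Matrix.J, fromBlocks_transpose, fromBlocks_multiply, fromBlocks_multiply]
      have e : rowShear z (root i.1 : F) (xv i) *
          rowShear z ((root i.1 : F)⁻¹) (fun j => -((root i.1 : F)⁻¹) * xv i j) = 1 := by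
        rw [rowShear_mul, mul_inv_cancel₀ (root i.1).ne_zero, ← rowShear_one z]
        congr 1
        funext j
        simp
      simp only [neg_mul] at e
      simp [← Matrix.transpose_mul, e]⟩
  have hconj : ∀ i v, g i * hookUni z (.ofAdd v) =
      hookUni z (.ofAdd (hookAct z (root i.1 : F) (xv i) v)) * g i := by
    intro i v
    refine Subtype.ext ?_
    change fromBlocks _ _ _ _ * fromBlocks _ _ _ _ = fromBlocks _ _ _ _ * fromBlocks _ _ _ _
    rw [fromBlocks_multiply, fromBlocks_multiply]
    congr 1 <;> simp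
    rw [← rowShear_hookMat, Matrix.mul_assoc, ← Matrix.transpose_mul]
    have e : rowShear z ((root i.1 : F)⁻¹) (fun j => -((root i.1 : F)⁻¹) * xv i j) *
        rowShear z (root i.1 : F) (xv i) = 1 := by
      rw [rowShear_mul, inv_mul_cancel₀ (root i.1).ne_zero, ← rowShear_one z]
      congr 1
      funext j
      simp
    simp at e
    rw [e, Matrix.transpose_one, Matrix.mul_one]
  have hval : ∀ (i : ι) (v : Fin n → F), u ⬝ᵥ hookAct z (root i.1 : F) (xv i) v =
      (i.1.1 : F) * u z * v z + ∑ j : J, i.2 j * v j.1 := by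
    intro i v
    rw [dotProduct, ← Finset.add_sum_erase _ _ (Finset.mem_univ z)]
    have hsum : ∑ j : J, i.2 j * v j.1 = ∑ j ∈ Finset.univ.erase z,
        (if h : j = z then 0 else i.2 ⟨j, h⟩ * v j) := by
      rw [Finset.sum_subtype (Finset.univ.erase z) (p := fun j => j ≠ z) (by simp)]
      exact Finset.sum_congr rfl fun j _ => by rw [dif_neg j.2]
    rw [hsum, hookAct, Function.update_self, mul_add, Finset.mul_sum, Finset.mul_sum, add_assoc,
      ← Finset.sum_add_distrib, ← hroot i.1, Units.val_pow_eq_pow_val]
    congr 1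
    · ring
    · refine Finset.sum_congr rfl fun j hj => ?_
      have hjz := Finset.ne_of_mem_erase hj
      rw [Function.update_of_ne hjz, dif_neg hjz, Pi.smul_apply, smul_eq_mul]
      simp only [xv, dif_neg hjz]
      field_simp [huz, h2, (root i.1).ne_zero]
      ring
  have hinj : Function.Injective fun (i : ι) v => χ (hookAct z (root i.1 : F) (xv i) v) := by
    intro i k h
    obtain ⟨c, hc⟩ := hlam
    have key : ∀ v : Fin n → F, (i.1.1 : F) * u z * v z + ∑ j : J, i.2 j * v j.1 =
        (k.1.1 : F) * u z * v z + ∑ j : J, k.2 j * v j.1 := by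
      intro v
      by_contra hne'
      set A := (i.1.1 : F) * u z * v z + ∑ j : J, i.2 j * v j.1 with hA
      set B := (k.1.1 : F) * u z * v z + ∑ j : J, k.2 j * v j.1 with hB
      have h1 := congrFun h ((c / (A - B)) • v)
      simp only [hu, hval] at h1
      have e : ∀ (q : ι), (q.1.1 : F) * u z * ((c / (A - B)) • v) z +
          ∑ j : J, q.2 j * ((c / (A - B)) • v) j.1 =
          (c / (A - B)) * ((q.1.1 : F) * u z * v z + ∑ j : J, q.2 j * v j.1) := by
        intro q
        simp only [Pi.smul_apply, smul_eq_mul, mul_add, Finset.mul_sum]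
        congr 1
        · ring
        · exact Finset.sum_congr rfl fun j _ => by ring
      rw [e, e, ← hA, ← hB] at h1
      apply hc
      calc lam c = lam (c / (A - B) * A - c / (A - B) * B) := by
            rw [← mul_sub, div_mul_cancel₀ _ (sub_ne_zero.mpr hne')]
        _ = 1 := by
            rw [AddChar.map_sub_eq_div, h1]
            exact div_self (AddChar.val_isUnit lam _).ne_zero
    refine Prod.ext (Subtype.ext (Units.ext ?_)) (funext fun j => ?_)
    · have := key (Pi.single z 1)
      rw [Finset.sum_eq_zero (fun j _ => by rw [Pi.single_eq_of_ne j.2, mul_zero]),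
        Finset.sum_eq_zero (fun j _ => by rw [Pi.single_eq_of_ne j.2, mul_zero])] at this
      simpa [huz] using this
    · have := key (Pi.single j.1 1)
      rw [Finset.sum_eq_single j (fun b _ hb => by
          rw [Pi.single_eq_of_ne (fun e => hb (Subtype.ext e)), mul_zero]) (by simp),
        Finset.sum_eq_single j (fun b _ hb => by
          rw [Pi.single_eq_of_ne (fun e => hb (Subtype.ext e)), mul_zero]) (by simp)] at this
      simpa [Pi.single_eq_of_ne (Ne.symm j.2)] using this
  refine le_trans ?_ (hbound g _ hconj hinj)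
  rw [← Nat.card_eq_fintype_card (α := ι), Nat.card_prod, Nat.card_fun]
  have hcardJ : Nat.card J = n - 1 := by simp [J, Nat.card_eq_fintype_card, Fintype.card_subtype_compl]
  have hsq : Fintype.card F - 1 ≤ 2 * Nat.card sq.range := by
    have hk : Nat.card sq.ker ≤ 2 := by
      refine le_trans (Nat.card_le_card_of_injective
        (fun x : sq.ker => (⟨x.1, (mem_rootsOfUnity _ _).mpr x.2⟩ : rootsOfUnity 2 F))
        (fun a b e => Subtype.ext (congrArg (fun t : rootsOfUnity 2 F => (t : Fˣ)) e))) (card_rootsOfUnity F 2)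
    rw [← Nat.card_eq_fintype_card, ← Nat.card_units, ← Subgroup.card_mul_index sq.ker, Subgroup.index_ker]
    exact Nat.mul_le_mul_right _ hk
  rw [hcardJ, Nat.card_eq_fintype_card (α := F)]
  refine Nat.div_le_of_le_mul ?_
  calc Fintype.card F ^ (n - 1) * (Fintype.card F - 1)
      ≤ Fintype.card F ^ (n - 1) * (2 * Nat.card sq.range) := Nat.mul_le_mul_left _ hsq
    _ = _ := by ring

end CfsgLib.CharBound
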