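import Cfsg.Agent.Lib.CharBound.SpEvenBasic
import Cfsg.Agent.Lib.CharBound.FixedSum
import Cfsg.Agent.Lib.CharBound.AddChars

set_option autoImplicit false

/-!
The smallest degree `(q^n - 1)(q^n - q) / (2(q+1))` of a non-trivial complex representation of `Sp_2n(q)`,
`q` even.
-/

namespace CfsgLib.CharBound.SpEven

open Cfsg Matrix CfsgLib.Sp Module

variable {F : Type*} [Field F] {n : ℕ} {W : Type*} [AddCommGroup W] [Module ℂ W]

local notation "ω" => sympBilin n F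
local notation "VV" => (Fin n ⊕ Fin n → F)
local notation "GG" => (Matrix.symplecticGroup (Fin n) F)

variable (ρ : Representation ℂ (Matrix.symplecticGroup (Fin n) F) W)

theorem rep_mul (g h : GG) (w : W) : ρ (g * h) w = ρ g (ρ h w) := by
  rw [map_mul]; rfl

theorem rep_inv (g : GG) (w : W) : ρ g (ρ g⁻¹ w) = w := by
  rw [← rep_mul, mul_inv_cancel, map_one]; rfl

/-- Invariance under the group attached to `U`. -/
def Inv (U : Submodule F VV) (P : Submodule ℂ W) : Prop :=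
  ∀ g : GG, Fixes U g → ∀ w ∈ P, ρ g w ∈ P

/-- Some transvection attached to `U` acts non-trivially. -/
def NonTriv (U : Submodule F VV) (P : Submodule ℂ W) : Prop :=
  ∃ x ∈ U, ∃ c, ∃ w ∈ P, ρ (tmat x c) w ≠ w

/-- The fixed space of a root group. -/
def fixed (x : VV) : Submodule ℂ W where
  carrier := {w | ∀ c, ρ (tmat x c) w = w}
  zero_mem' _ := map_zero _
  add_mem' ha hb c := by rw [map_add, ha c, hb c]
  smul_mem' r _ ha c := by rw [map_smul, ha c]

theorem mem_fixed {x : VV} {w : W} : w ∈ fixed ρ x ↔ ∀ c, ρ (tmat x c) w = w := Iff.rfl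

variable {ρ}

theorem nonTriv_at {U : Submodule F VV} {P : Submodule ℂ W} (hU : Nondeg U) (hP : Inv ρ U P)
    (hnt : NonTriv ρ U P) {x₀ : VV} (hx₀ : x₀ ∈ U) (h0 : x₀ ≠ 0) :
    ∃ c, ∃ w ∈ P, ρ (tmat x₀ c) w ≠ w := by
  obtain ⟨x, hx, c, w, hw, hmove⟩ := hnt
  have hx0 : x ≠ 0 := fun h => hmove (by
    rw [h, show tmat (0 : VV) c = 1 from ext_vec fun v => by simp [tmat_apply], map_one]; rfl)
  obtain ⟨g, hg, hgx⟩ := exists_fixes_map hU hx₀ hx h0 hx0
  refine ⟨c, ρ g⁻¹ w, hP _ (fixes_inv hg) w hw, fun h => hmove ?_⟩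
  rw [← hgx, ← conj_tmat, rep_mul, rep_mul, h, rep_inv]

/-- A common eigenvector of the family `eMap x`. -/
structure IsEig (ρ : Representation ℂ GG W) (U : Submodule F VV) (P : Submodule ℂ W) (x : VV) (v : W)
    (χ : F → VV → ℂ) : Prop where
  ne : v ≠ 0
  mem : v ∈ P
  eig : ∀ a w, w ∈ U → ω x w = 0 → ρ (eMap x a w) v = χ a w • v

variable {U : Submodule F (Fin n ⊕ Fin n → F)} {P : Submodule ℂ W} {x : Fin n ⊕ Fin n → F} {v : W}
  {χ : F → (Fin n ⊕ Fin n → F) → ℂ}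

theorem IsEig.mul [CharP F 2] (h : IsEig ρ U P x v χ) {a b : F} {w u : VV} (hw : w ∈ U) (hxw : ω x w = 0)
    (hu : u ∈ U) (hxu : ω x u = 0) : χ (a + b + ω w u) (w + u) = χ a w * χ b u := by
  refine smul_left_injective ℂ h.ne ?_
  show χ _ _ • v = (χ a w * χ b u) • v
  rw [← h.eig _ _ (add_mem hw hu) (by rw [map_add, hxw, hxu, add_zero]), ← eMap_mul hxw hxu, rep_mul,
    h.eig b u hu hxu, map_smul, h.eig a w hw hxw, smul_smul, mul_comm]

theorem IsEig.zero [CharP F 2] (h : IsEig ρ U P x v χ) : χ 0 0 = 1 := by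
  refine smul_left_injective ℂ h.ne ?_
  show χ 0 0 • v = (1 : ℂ) • v
  rw [← h.eig 0 0 U.zero_mem (map_zero _), eMap_zero, tmat_zero, map_one, one_smul]
  rfl

variable [CharP F 2] [Fintype F] [FiniteDimensional ℂ W]

theorem exists_eig (hP : Inv ρ U P) (hx : x ∈ U) {c : F} {w : W} (hw : w ∈ P)
    (hmove : ρ (tmat x c) w ≠ w) : ∃ v χ, IsEig ρ U P x v χ ∧ χ c 0 ≠ 1 := by
  classical
  let f : F × {u : VV // u ∈ U ∧ ω x u = 0} → P →ₗ[ℂ] P := fun p =>
    (ρ (eMap x p.1 p.2.1)).restrict (hP _ (fixes_eMap hx p.2.2.1 p.1))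
  have hcomm : ∀ p r, Commute (f p) (f r) := fun p r => LinearMap.ext fun z => Subtype.ext <| by
    show ρ (eMap x p.1 p.2.1) (ρ (eMap x r.1 r.2.1) z) = ρ (eMap x r.1 r.2.1) (ρ (eMap x p.1 p.2.1) z)
    rw [← rep_mul, ← rep_mul, eMap_comm p.2.2.2 r.2.2.2]
  let p₀ : F × {u : VV // u ∈ U ∧ ω x u = 0} := (c, ⟨0, U.zero_mem, map_zero _⟩)
  have hpow : f p₀ ^ 2 = 1 := LinearMap.ext fun z => Subtype.ext <| by
    rw [pow_two]
    show ρ (eMap x c 0) (ρ (eMap x c 0) z) = z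
    rw [← rep_mul, eMap_zero, tmat_mul, CharTwo.add_self_eq_zero, tmat_zero, map_one]
    rfl
  have hne : f p₀ ≠ 1 := fun h => hmove (by
    have := congrArg Subtype.val (LinearMap.congr_fun h ⟨w, hw⟩)
    change ρ (eMap x c 0) w = w at this
    rwa [eMap_zero] at this)
  obtain ⟨v, χ, hv0, hχ, hv⟩ := exists_nontrivial_eigen f hcomm p₀ (N := 2) two_ne_zero hpow hne
  refine ⟨v, fun a u => if h : u ∈ U ∧ ω x u = 0 then χ (a, ⟨u, h⟩) else 0,
    ⟨fun h => hv0 (Subtype.ext h), v.2, fun a u hu hxu => ?_⟩, ?_⟩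
  · rw [dif_pos ⟨hu, hxu⟩]
    exact congrArg Subtype.val (hv (a, ⟨u, hu, hxu⟩))
  · dsimp only
    rw [dif_pos (show (0 : VV) ∈ U ∧ ω x 0 = 0 from ⟨U.zero_mem, map_zero _⟩)]
    exact hχ

/-- Moving the character on the root group by the multipliers. -/
theorem IsEig.rescale (h : IsEig ρ U P x v χ) (hP : Inv ρ U P) {s : F} (hs : s ≠ 0) {g : GG}
    (hg : Fixes U g) (hgx : g.1 *ᵥ x = s • x) :
    IsEig ρ U P x (ρ g v) fun a w => χ (s⁻¹ * s⁻¹ * a) (s⁻¹ • (g⁻¹).1 *ᵥ w) := by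
  refine ⟨fun h0 => h.ne ?_, hP g hg v h.mem, fun a w hw hxw => ?_⟩
  · have := congrArg (ρ g⁻¹) h0
    rw [← rep_mul, inv_mul_cancel, map_one, map_zero] at this
    exact this
  · have hinv : (g⁻¹).1 *ᵥ x = s⁻¹ • x := by
      conv_lhs => rw [show x = s⁻¹ • (s • x) by rw [smul_smul, inv_mul_cancel₀ hs, one_smul], ← hgx]
      rw [mulVec_smul, ← mul_apply, inv_mul_cancel]
      exact congrArg _ (one_mulVec x)
    have horth : ω x ((g⁻¹).1 *ᵥ w) = 0 := by
      have := toEquiv_mem_isom (g⁻¹) x w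
      simp only [toEquiv_apply, hinv, map_smul, LinearMap.smul_apply, smul_eq_mul, hxw] at this
      exact (mul_eq_zero.mp this).resolve_left (inv_ne_zero hs)
    have hconj : g⁻¹ * eMap x a w * g⁻¹⁻¹ = eMap x (s⁻¹ * s⁻¹ * a) (s⁻¹ • (g⁻¹).1 *ᵥ w) := by
      rw [eMap_conj, hinv, eMap_smul horth]
    have key : eMap x a w * g = g * eMap x (s⁻¹ * s⁻¹ * a) (s⁻¹ • (g⁻¹).1 *ᵥ w) := by
      rw [← hconj]; group
    rw [← rep_mul, key, rep_mul, h.eig _ _ (U.smul_mem _ (fixes_mem (fixes_inv hg) w hw))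
      (by rw [map_smul, horth, smul_zero]), map_smul]

variable {lam : AddChar F ℂ}

theorem exists_eig_lam (hlam : lam ≠ 1) (hU : Nondeg U) (hP : Inv ρ U P) (hnt : NonTriv ρ U P) (hx : x ∈ U)
    (hx0 : x ≠ 0) : ∃ v χ, IsEig ρ U P x v χ ∧ ∀ a, χ a 0 = lam a := by
  obtain ⟨c, w, hw, hmove⟩ := nonTriv_at hU hP hnt hx hx0
  obtain ⟨v, χ, he, hc⟩ := exists_eig hP hx hw hmove
  obtain ⟨γ, hγ⟩ := exists_mulShift lam hlam (fun a => χ a 0) he.zero fun a b => by
    have := he.mul (a := a) (b := b) U.zero_mem (map_zero (ω x)) U.zero_mem (map_zero (ω x))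
    rwa [map_zero (ω 0), add_zero, add_zero] at this
  have hγ0 : γ ≠ 0 := fun h => hc (by rw [hγ, h, zero_mul, AddChar.map_zero_eq_one])
  obtain ⟨s, hs⟩ : ∃ s, γ = s * s := FiniteField.isSquare_of_char_two (ringChar.eq F 2) γ
  have hs0 : s ≠ 0 := fun h => hγ0 (by rw [hs, h, zero_mul])
  obtain ⟨g, hg, hgx⟩ := exists_fixes_map hU hx (U.smul_mem s hx) hx0 (smul_ne_zero hs0 hx0)
  refine ⟨_, _, he.rescale hP hs0 hg hgx, fun a => ?_⟩
  rw [mulVec_zero, smul_zero, hγ, hs]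
  congr 1
  field_simp

/-- The translate by a transvection. -/
theorem IsEig.translate (h : IsEig ρ U P x v χ) (hlam : ∀ a, χ a 0 = lam a) (hlam1 : lam ≠ 1)
    (hsq : ∀ a, lam (a * a) = lam a) (hker : ∀ c, lam c = 1 → ∃ r, r * r + r = c) (hP : Inv ρ U P)
    {d : VV} (hd : d ∈ U) (hxd : ω x d = 0) (hd1 : χ 0 d = 1) :
    ∃ v', IsEig ρ U P x v' fun a w => χ a w * lam (ω w d) := by
  obtain ⟨L, hL⟩ := exists_mulShift lam hlam1 (fun t => χ 0 (t • d))
    (by rw [zero_smul]; exact h.zero) fun a b => by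
      have := h.mul (a := 0) (b := 0) (U.smul_mem a hd) (by rw [map_smul, hxd, smul_zero])
        (U.smul_mem b hd) (by rw [map_smul, hxd, smul_zero])
      simpa [self, add_smul] using this
  -- solve `L s² + s = 1`
  have hlamL : lam L = 1 := by
    have := hL 1
    rw [one_smul, mul_one, hd1] at this
    exact this.symm
  obtain ⟨s, hs⟩ : ∃ s, L * (s * s) + s = 1 := by
    by_cases hL0 : L = 0
    · exact ⟨1, by rw [hL0]; ring⟩
    · obtain ⟨r, hr⟩ := hker L hlamL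
      refine ⟨r / L, ?_⟩
      field_simp
      linear_combination hr
  refine ⟨ρ (tmat d (s * s)) v, fun h0 => h.ne ?_, hP _ (fixes_tmat hd _) v h.mem, fun a w hw hxw => ?_⟩
  · have := congrArg (ρ (tmat d (s * s))⁻¹) h0
    rw [← rep_mul, inv_mul_cancel, map_one, map_zero] at this
    exact this
  · have hkey : eMap x a w * tmat d (s * s) = tmat d (s * s) *
        (eMap x a w * eMap x (s * s * (ω w d * ω w d)) ((s * s * ω w d) • d)) := by
      have h1 := tmat_eMap hxw hxd (s * s) a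
      rw [← h1]
      have h2 : (tmat d (s * s))⁻¹ = tmat d (s * s) := by rw [tmat_inv, CharTwo.neg_eq]
      rw [h2, ← mul_assoc, ← mul_assoc, tmat_mul, CharTwo.add_self_eq_zero, tmat_zero, one_mul]
    rw [← rep_mul, hkey, rep_mul, rep_mul,
      h.eig _ _ (U.smul_mem _ hd) (by rw [map_smul, hxd, smul_zero]), map_smul, h.eig a w hw hxw,
      map_smul, map_smul, smul_smul, mul_comm (χ _ _)]
    congr 2
    have h3 := h.mul (a := s * s * (ω w d * ω w d)) (b := 0) U.zero_mem (map_zero (ω x))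
      (U.smul_mem (s * s * ω w d) hd) (by rw [map_smul, hxd, smul_zero])
    rw [map_zero (ω), LinearMap.zero_apply, add_zero, add_zero, zero_add] at h3
    rw [h3, hlam, hL, show s * s * (ω w d * ω w d) = s * ω w d * (s * ω w d) by ring, hsq,
      ← AddChar.map_add_eq_mul]
    congr 1
    linear_combination (ω w d) * hs

/-- At least `(q^(2m) - q^m) / 2` of the translates are available. -/
theorem IsEig.count (h : IsEig ρ U P x v χ) (hlam : ∀ a, χ a 0 = lam a) (hlam1 : lam ≠ 1)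
    (U' : Submodule F VV) (hle : U' ≤ U) (horth : ∀ w ∈ U', ω x w = 0) (hU' : Nondeg U') {m : ℕ}
    (hcard : Nat.card U' = (Fintype.card F ^ m) ^ 2) :
    ((Fintype.card F : ℤ) ^ m) ^ 2 - (Fintype.card F : ℤ) ^ m ≤
      2 * (Nat.card {d : U' // χ 0 d.1 = 1} : ℤ) := by
  classical
  have hmul : ∀ a b : U', χ 0 a.1 * χ 0 b.1 = lam (ω a.1 b.1) * χ 0 (a + b : U').1 := by
    intro a b
    have h1 := h.mul (a := 0) (b := 0) (hle a.2) (horth _ a.2) (hle b.2) (horth _ b.2)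
    have h2 := h.mul (a := ω a.1 b.1) (b := 0) U.zero_mem (map_zero (ω x)) (hle (a + b : U').2)
      (horth _ (a + b : U').2)
    rw [add_zero, zero_add] at h1
    rw [map_zero (ω), LinearMap.zero_apply, add_zero, add_zero, zero_add, hlam] at h2
    rw [← h1, ← h2]
    rfl
  let S : ℂ := ∑ d : U', χ 0 d.1
  have hS : S * S = (Fintype.card U' : ℂ) := by
    simp only [S, Finset.sum_mul_sum, hmul]
    have : ∀ d : U', ∑ d' : U', lam (ω d.1 d'.1) * χ 0 (d + d' : U').1 =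
        ∑ c : U', lam (ω d.1 c.1) * χ 0 c.1 := by
      intro d
      refine Fintype.sum_equiv (Equiv.addLeft d) _ _ fun d' => ?_
      simp only [Equiv.coe_addLeft, Submodule.coe_add, map_add, self, zero_add]
    simp only [this]
    rw [Finset.sum_comm, Finset.sum_eq_single (0 : U')]
    · simp [h.zero]
    · intro c _ hc
      rw [← Finset.sum_mul]
      convert zero_mul (χ 0 c.1)
      let ψ : AddChar U' ℂ := lam.compAddMonoidHom
        (AddMonoidHom.mk' (fun d : U' => ω d.1 c.1) fun a b => by simp)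
      refine AddChar.sum_eq_zero_of_ne_one (ψ := ψ) fun hψ => ?_
      obtain ⟨t, ht⟩ := AddChar.ne_one_iff.mp hlam1
      obtain ⟨z, hz, hcz⟩ := hU' c.1 c.2 fun e => hc (Subtype.ext e)
      have := DFunLike.congr_fun hψ (⟨t • z, U'.smul_mem t hz⟩ : U')
      simp only [ψ, AddChar.compAddMonoidHom_apply, AddMonoidHom.mk'_apply, map_smul, LinearMap.smul_apply,
        smul_eq_mul, AddChar.one_apply, sym z c.1, hcz, mul_one] at this
      exact ht this
    · simp
  have hone : ∀ d : U', χ 0 d.1 = if χ 0 d.1 = 1 then 1 else -1 := by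
    intro d
    split_ifs with hd
    · exact hd
    · have h1 := hmul d d
      rw [self, AddChar.map_zero_eq_one, one_mul, Submodule.coe_add,
        show d.1 + d.1 = 0 from funext fun i => CharTwo.add_self_eq_zero _, h.zero] at h1
      exact (mul_self_eq_one_iff.mp h1).resolve_left hd
  set N := Nat.card {d : U' // χ 0 d.1 = 1} with hN
  have hS2 : S = 2 * (N : ℂ) - (Fintype.card U' : ℂ) := by
    have e1 : ∀ d : U', χ 0 d.1 = 2 * (if χ 0 d.1 = 1 then (1 : ℂ) else 0) - 1 := fun d => by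
      conv_lhs => rw [hone d]
      split_ifs <;> norm_num
    simp only [S]
    rw [Finset.sum_congr rfl fun d _ => e1 d, Finset.sum_sub_distrib, ← Finset.mul_sum, Finset.sum_boole,
      hN, Nat.card_eq_fintype_card, Fintype.card_subtype]
    simp
  have hc' : Fintype.card U' = (Fintype.card F ^ m) ^ 2 := by rw [← Nat.card_eq_fintype_card, hcard]
  rw [hS2, hc'] at hS
  have hZ : (2 * (N : ℤ) - ((Fintype.card F : ℤ) ^ m) ^ 2) ^ 2 = ((Fintype.card F : ℤ) ^ m) ^ 2 := by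
    rw [sq (2 * (N : ℤ) - _)]
    exact_mod_cast hS
  rcases sq_eq_sq_iff_eq_or_eq_neg.mp hZ with e | e <;> nlinarith [pow_nonneg (Nat.cast_nonneg' (α := ℤ) (Fintype.card F)) m]

/-- The characters on `eMap x` and the fixed space of the root group. -/
theorem step_bound (hU : Nondeg U) (hP : Inv ρ U P) (hnt : NonTriv ρ U P) (hx : x ∈ U) {y : VV} (hy : y ∈ U)
    (hxy : ω x y = 1) {m : ℕ} (hcard : Nat.card (perp2 U x y) = (Fintype.card F ^ m) ^ 2) :
    2 * (finrank ℂ (P ⊓ fixed ρ x : Submodule ℂ W) : ℤ) +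
        ((Fintype.card F : ℤ) - 1) * (((Fintype.card F : ℤ) ^ m) ^ 2 - (Fintype.card F : ℤ) ^ m) ≤
      2 * (finrank ℂ P : ℤ) := by
  classical
  obtain ⟨lam, hlam1, hsq, hker⟩ := exists_artinSchreier_char (F := F)
  have hx0 : x ≠ 0 := fun h => by simp [h] at hxy
  obtain ⟨v, χ, he, hlam⟩ := exists_eig_lam hlam1 hU hP hnt hx hx0
  have hN := he.count hlam hlam1 (perp2 U x y) (fun w hw => (mem_perp2.mp hw).1)
    (fun w hw => (mem_perp2.mp hw).2.1) (nondeg_perp2 hU hx hy hxy) hcard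
  let D := {d : perp2 U x y // χ 0 d.1 = 1}
  have htr : ∀ d : D, ∃ v', IsEig ρ U P x v' fun a w => χ a w * lam (ω w d.1.1) := fun d =>
    he.translate hlam hlam1 hsq hker hP (mem_perp2.mp d.1.2).1 (mem_perp2.mp d.1.2).2.1 d.2
  choose vd hvd using htr
  choose g hg hgx using fun s : Fˣ =>
    exists_fixes_map hU hx (U.smul_mem (s : F) hx) hx0 (smul_ne_zero s.ne_zero hx0)
  have he' := fun i : Fˣ × D => (hvd i.2).rescale hP i.1.ne_zero (hg i.1) (hgx i.1)
  let A := F × {u : VV // u ∈ U ∧ ω x u = 0}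
  let char : Fˣ × D → A → ℂ := fun i a =>
    χ ((i.1 : F)⁻¹ * (i.1 : F)⁻¹ * a.1) ((i.1 : F)⁻¹ • (g i.1)⁻¹.1 *ᵥ a.2.1) *
      lam (ω ((i.1 : F)⁻¹ • (g i.1)⁻¹.1 *ᵥ a.2.1) i.2.1.1)
  have h00 : ∀ (i : Fˣ × D) (a : F),
      char i (a, ⟨0, U.zero_mem, map_zero _⟩) = lam ((i.1 : F)⁻¹ * (i.1 : F)⁻¹ * a) := fun i a => by
    simp only [char, mulVec_zero, smul_zero, map_zero (ω), LinearMap.zero_apply, AddChar.map_zero_eq_one,
      mul_one, hlam]
  have hinj : Function.Injective char := by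
    intro i j hij
    have e1 : i.1 = j.1 := by
      have h1 : ((i.1 : F)⁻¹ * (i.1 : F)⁻¹) = ((j.1 : F)⁻¹ * (j.1 : F)⁻¹) :=
        mulShift_left_cancel lam hlam1 fun a => by
          rw [← h00 i a, ← h00 j a, hij]
      exact Units.ext (inv_injective (frobenius_inj F 2 (by simpa [frobenius_def, pow_two] using h1)))
    refine Prod.ext e1 ?_
    by_contra hne
    have hdd : i.2.1.1 - j.2.1.1 ≠ 0 := fun h => hne (Subtype.ext (Subtype.ext (sub_eq_zero.mp h)))
    obtain ⟨z, hz, hzd⟩ := nondeg_perp2 hU hx hy hxy _ (sub_mem i.2.1.2 j.2.1.2) hdd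
    obtain ⟨t, ht⟩ := AddChar.ne_one_iff.mp hlam1
    have hwU : (g i.1).1 *ᵥ ((i.1 : F) • t • z) ∈ U :=
      fixes_mem (hg i.1) _ (U.smul_mem _ (U.smul_mem _ (mem_perp2.mp hz).1))
    have hwx : ω x ((g i.1).1 *ᵥ ((i.1 : F) • t • z)) = 0 := by
      have h1 := toEquiv_mem_isom (g i.1) x ((i.1 : F) • t • z)
      rw [toEquiv_apply, toEquiv_apply, hgx, LinearMap.map_smul (ω) (i.1 : F) x, LinearMap.smul_apply,
        map_smul (ω x) (i.1 : F) (t • z), map_smul (ω x) t z, (mem_perp2.mp hz).2.1, smul_zero, smul_zero,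
        smul_eq_mul] at h1
      exact (mul_eq_zero.mp h1).resolve_left i.1.ne_zero
    have hback : (i.1 : F)⁻¹ • ((g i.1)⁻¹).1 *ᵥ ((g i.1).1 *ᵥ ((i.1 : F) • t • z)) = t • z := by
      rw [← mul_apply, inv_mul_cancel, show (1 : GG).1 = 1 from rfl, one_mulVec, smul_smul,
        inv_mul_cancel₀ i.1.ne_zero, one_smul]
    have h2 := congrFun hij (0, ⟨_, hwU, hwx⟩)
    simp only [char] at h2
    rw [← e1, hback, mul_zero] at h2
    have hχne : χ 0 (t • z) ≠ 0 := by
      intro h0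
      have := he.eig 0 (t • z) (U.smul_mem _ (mem_perp2.mp hz).1)
        (by rw [map_smul, (mem_perp2.mp hz).2.1, smul_zero])
      rw [h0, zero_smul] at this
      have h3 := congrArg (ρ (eMap x 0 (t • z))⁻¹) this
      rw [← rep_mul, inv_mul_cancel, map_one, map_zero] at h3
      exact he.ne h3
    have h3 := mul_left_cancel₀ hχne h2
    apply ht
    have h4 : ω (t • z) (i.2.1.1 - j.2.1.1) = t := by
      rw [map_smul, LinearMap.smul_apply, sym z, hzd, smul_eq_mul, mul_one]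
    rw [← h4, map_sub, AddChar.map_sub_eq_div, h3, div_self (AddChar.val_isUnit lam _).ne_zero]
  have key := finrank_add_card_le (fun a : A => ρ (eMap x a.1 a.2.1)) char hinj P (P ⊓ fixed ρ x)
    (fun i => ρ (g i.1) (vd i.2)) inf_le_left (fun i => (he' i).mem) (fun i => (he' i).ne)
    (fun i a => (he' i).eig a.1 a.2.1 a.2.2.1 a.2.2.2) (fun i => by
      obtain ⟨t, ht⟩ := AddChar.ne_one_iff.mp hlam1
      refine ⟨((i.1 : F) * (i.1 : F) * t, ⟨0, U.zero_mem, map_zero _⟩), ?_, fun w hw => ?_⟩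
      · rw [h00]
        convert ht using 3
        field_simp
      · show ρ (eMap x _ 0) w = w
        rw [eMap_zero]
        exact hw.2 _)
  rw [Fintype.card_prod, Fintype.card_units] at key
  have hq : 1 ≤ Fintype.card F := Fintype.card_pos
  zify [hq] at key
  rw [Nat.card_eq_fintype_card] at hN
  nlinarith [key, hN, (by exact_mod_cast hq : (1 : ℤ) ≤ Fintype.card F)]

end CfsgLib.CharBound.SpEven
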