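import Cfsg.Agent.Lib.Sp.Group

set_option autoImplicit false

/-!
The group of isometries centralising the orthogonal complement of a non-degenerate subspace, and the commuting
family `eMap` in characteristic two.
-/

namespace CfsgLib.CharBound.SpEven

open Cfsg Matrix CfsgLib.Sp

variable {F : Type*} [Field F] {n : ℕ}

local notation "ω" => sympBilin n F
local notation "VV" => (Fin n ⊕ Fin n → F)
local notation "GG" => (Matrix.symplecticGroup (Fin n) F)

theorem sym [CharP F 2] (u v : VV) : ω u v = ω v u := by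
  rw [alt_flip sympBilin_isAlt v u, CharTwo.neg_eq]

theorem self (u : VV) : ω u u = 0 := sympBilin_isAlt u

theorem tmat_apply (v : VV) (c : F) (x : VV) : (tmat v c).1 *ᵥ x = x + (c * ω x v) • v := by
  rw [show (tmat v c).1 = sympTransvection n v c from rfl, sympTransvection_mulVec, sympBilin_apply]

theorem ext_vec {g h : GG} (H : ∀ v, g.1 *ᵥ v = h.1 *ᵥ v) : g = h :=
  toEquiv_injective (LinearEquiv.ext H)

theorem mul_apply (g h : GG) (v : VV) : (g * h).1 *ᵥ v = g.1 *ᵥ (h.1 *ᵥ v) :=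
  (mulVec_mulVec v g.1 h.1).symm

/-- `g` is a product of transvections with centres in `U`. -/
def Fixes (U : Submodule F VV) (g : GG) : Prop :=
  g ∈ Subgroup.closure {t : GG | ∃ u ∈ U, ∃ c, t = tmat u c}

theorem fixes_mul {U : Submodule F VV} {g h : GG} (hg : Fixes U g) (hh : Fixes U h) : Fixes U (g * h) :=
  Subgroup.mul_mem _ hg hh

theorem fixes_inv {U : Submodule F VV} {g : GG} (hg : Fixes U g) : Fixes U g⁻¹ :=
  Subgroup.inv_mem _ hg

theorem fixes_tmat {U : Submodule F VV} {u : VV} (hu : u ∈ U) (c : F) : Fixes U (tmat u c) :=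
  Subgroup.subset_closure ⟨u, hu, c, rfl⟩

theorem fixes_mono {U U' : Submodule F VV} (h : U' ≤ U) {g : GG} (hg : Fixes U' g) : Fixes U g :=
  SetLike.le_def.mp (Subgroup.closure_mono (show {t : GG | ∃ u ∈ U', ∃ c, t = tmat u c} ⊆ {t : GG | ∃ u ∈ U, ∃ c, t = tmat u c}
    from fun _ ⟨u, hu, c, e⟩ => ⟨u, h hu, c, e⟩)) hg

theorem fixes_mem {U : Submodule F VV} {g : GG} (hg : Fixes U g) : ∀ v ∈ U, g.1 *ᵥ v ∈ U := by
  refine Subgroup.closure_induction'' (p := fun g _ => ∀ v ∈ U, g.1 *ᵥ v ∈ U) ?_ ?_ ?_ ?_ hg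
  · rintro _ ⟨u, hu, c, rfl⟩ v hv
    rw [tmat_apply]; exact add_mem hv (U.smul_mem _ hu)
  · rintro _ ⟨u, hu, c, rfl⟩ v hv
    rw [tmat_inv, tmat_apply]; exact add_mem hv (U.smul_mem _ hu)
  · intro v hv
    rw [show (1 : GG).1 = 1 from rfl, one_mulVec]; exact hv
  · intro a b _ _ ha hb v hv
    rw [mul_apply]; exact ha _ (hb v hv)

theorem fixes_apply {U : Submodule F VV} {g : GG} (hg : Fixes U g) {v : VV}
    (hv : ∀ u ∈ U, ω v u = 0) : g.1 *ᵥ v = v := by
  refine Subgroup.closure_induction'' (p := fun g _ => g.1 *ᵥ v = v) ?_ ?_ ?_ ?_ hg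
  · rintro _ ⟨u, hu, c, rfl⟩
    rw [tmat_apply, hv u hu, mul_zero, zero_smul, add_zero]
  · rintro _ ⟨u, hu, c, rfl⟩
    rw [tmat_inv, tmat_apply, hv u hu, mul_zero, zero_smul, add_zero]
  · exact one_mulVec v
  · intro a b _ _ ha hb
    rw [mul_apply, hb, ha]

/-- Non-degenerate subspaces. -/
def Nondeg (U : Submodule F VV) : Prop := ∀ u ∈ U, u ≠ 0 → ∃ v ∈ U, ω u v = 1

theorem exists_fixes_map {U : Submodule F VV} (hU : Nondeg U) {u u' : VV} (hu : u ∈ U) (hu' : u' ∈ U)
    (h : u ≠ 0) (h' : u' ≠ 0) : ∃ g : GG, Fixes U g ∧ g.1 *ᵥ u = u' := by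
  have step : ∀ a ∈ U, ∀ b ∈ U, ω a b ≠ 0 → ∃ g : GG, Fixes U g ∧ g.1 *ᵥ a = b := by
    intro a ha b hb hab
    refine ⟨tmat (b - a) (ω a b)⁻¹, fixes_tmat (sub_mem hb ha) _, ?_⟩
    rw [tmat_apply, map_sub, self, sub_zero, inv_mul_cancel₀ hab, one_smul, add_sub_cancel]
  by_cases huu : ω u u' = 0
  · obtain ⟨z, hz, hzu, hzu'⟩ : ∃ z ∈ U, ω u z ≠ 0 ∧ ω z u' ≠ 0 := by
      obtain ⟨v, hv, huv⟩ := hU u hu h
      obtain ⟨w, hw, huw⟩ := hU u' hu' h'
      have hwu : ω w u' = -1 := by rw [alt_flip sympBilin_isAlt u' w, huw]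
      by_cases h1 : ω v u' = 0
      · by_cases h2 : ω u w = 0
        · refine ⟨v + w, add_mem hv hw, ?_, ?_⟩
          · rw [map_add, huv, h2, add_zero]; exact one_ne_zero
          · rw [map_add, LinearMap.add_apply, h1, hwu, zero_add]; exact neg_ne_zero.mpr one_ne_zero
        · exact ⟨w, hw, h2, by rw [hwu]; exact neg_ne_zero.mpr one_ne_zero⟩
      · exact ⟨v, hv, by rw [huv]; exact one_ne_zero, h1⟩
    obtain ⟨g, hg, hgu⟩ := step u hu z hz hzu
    obtain ⟨g', hg', hgu'⟩ := step z hz u' hu' hzu'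
    exact ⟨g' * g, fixes_mul hg' hg, by rw [mul_apply, hgu, hgu']⟩
  · exact step u hu u' hu' huu

/-- A hyperbolic partner of `a` orthogonal to an independent vector `b`. -/
theorem exists_partner_orth {U : Submodule F VV} (hU : Nondeg U) {a b : VV} (ha : a ∈ U) (hb : b ∈ U)
    (ha0 : a ≠ 0) (hab : b ∉ F ∙ a) : ∃ y ∈ U, ω a y = 1 ∧ ω b y = 0 := by
  obtain ⟨v, hv, hav⟩ := hU a ha ha0
  obtain ⟨w, hw, haw, hbw⟩ : ∃ w ∈ U, ω a w = 0 ∧ ω b w ≠ 0 := by
    by_contra hcon
    push Not at hcon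
    refine hab (Submodule.mem_span_singleton.mpr ⟨ω b v, ?_⟩)
    by_contra hne
    obtain ⟨z, hz, h1⟩ := hU (b - ω b v • a) (sub_mem hb (U.smul_mem _ ha))
      (sub_ne_zero.mpr (Ne.symm hne))
    have h2 := hcon (z - ω a z • v) (sub_mem hz (U.smul_mem _ hv))
      (by rw [map_sub, map_smul, hav, smul_eq_mul, mul_one, sub_self])
    simp only [map_sub, map_smul, LinearMap.sub_apply, LinearMap.smul_apply, smul_eq_mul] at h1 h2
    exact one_ne_zero (α := F) (by linear_combination h2 - h1)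
  refine ⟨v - (ω b v / ω b w) • w, sub_mem hv (U.smul_mem _ hw), ?_, ?_⟩
  · rw [map_sub, map_smul, hav, haw, smul_zero, sub_zero]
  · rw [map_sub, map_smul, smul_eq_mul, div_mul_cancel₀ _ hbw, sub_self]

/-- The orthogonal complement, inside `U`, of a hyperbolic pair. -/
noncomputable def perp2 (U : Submodule F VV) (x y : VV) : Submodule F VV :=
  U ⊓ LinearMap.ker (ω x) ⊓ LinearMap.ker (ω y)

theorem mem_perp2 {U : Submodule F VV} {x y v : VV} :
    v ∈ perp2 U x y ↔ v ∈ U ∧ ω x v = 0 ∧ ω y v = 0 := by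
  simp [perp2, and_assoc]

variable {U : Submodule F (Fin n ⊕ Fin n → F)} {x y : Fin n ⊕ Fin n → F}

theorem proj_mem (hx : x ∈ U) (hy : y ∈ U) (hxy : ω x y = 1) {v : VV} (hv : v ∈ U) :
    v + ω y v • x - ω x v • y ∈ perp2 U x y := by
  have hyx : ω y x = -1 := by rw [alt_flip sympBilin_isAlt x y, hxy]
  refine mem_perp2.mpr ⟨sub_mem (add_mem hv (U.smul_mem _ hx)) (U.smul_mem _ hy), ?_, ?_⟩
  · simp [self, hxy]
  · simp [self, hyx]

theorem nondeg_perp2 (hU : Nondeg U) (hx : x ∈ U) (hy : y ∈ U) (hxy : ω x y = 1) :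
    Nondeg (perp2 U x y) := by
  intro u hu hu0
  obtain ⟨huU, hxu, hyu⟩ := mem_perp2.mp hu
  obtain ⟨v, hv, huv⟩ := hU u huU hu0
  refine ⟨_, proj_mem hx hy hxy hv, ?_⟩
  have h1 : ω u x = 0 := by rw [alt_flip sympBilin_isAlt x u, hxu, neg_zero]
  have h2 : ω u y = 0 := by rw [alt_flip sympBilin_isAlt y u, hyu, neg_zero]
  simp [h1, h2, huv]

theorem card_eq_mul_perp2 [Finite F] (hx : x ∈ U) (hy : y ∈ U) (hxy : ω x y = 1) :
    Nat.card U = Nat.card F ^ 2 * Nat.card (perp2 U x y) := by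
  have hyx : ω y x = -1 := by rw [alt_flip sympBilin_isAlt x y, hxy]
  let e : U ≃ (F × F) × perp2 U x y :=
    { toFun := fun v => ((ω y v.1, ω x v.1), ⟨_, proj_mem hx hy hxy v.2⟩)
      invFun := fun p => ⟨p.2.1 - p.1.1 • x + p.1.2 • y,
        add_mem (sub_mem (mem_perp2.mp p.2.2).1 (U.smul_mem _ hx)) (U.smul_mem _ hy)⟩
      left_inv := fun v => Subtype.ext (by simp; abel)
      right_inv := fun p => by
        obtain ⟨⟨a, b⟩, z, hz⟩ := p
        obtain ⟨-, h1, h2⟩ := mem_perp2.mp hz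
        have e1 : ω y (z - a • x + b • y) = a := by simp [h2, hyx, self]
        have e2 : ω x (z - a • x + b • y) = b := by simp [h1, hxy, self]
        refine Prod.ext (Prod.ext e1 e2) (Subtype.ext ?_)
        show z - a • x + b • y + ω y (z - a • x + b • y) • x - ω x (z - a • x + b • y) • y = z
        rw [e1, e2]
        abel }
  rw [Nat.card_congr e, Nat.card_prod, Nat.card_prod, pow_two]

/-- `v ↦ v + ω(v,x) w + (ω(v,w) + a ω(v,x)) x`, for `ω(x,w) = 0` in characteristic two. -/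
def eMap (x : VV) (a : F) (w : VV) : GG := tmat (x + w) 1 * tmat w 1 * tmat x (a + 1)

theorem eMap_apply [CharP F 2] {x w : VV} (h : ω x w = 0) (a : F) (v : VV) :
    (eMap x a w).1 *ᵥ v = v + ω v x • w + (ω v w + a * ω v x) • x := by
  have hwx : ω w x = 0 := by rw [sym, h]
  have t2 : (2 : F) = 0 := CharTwo.two_eq_zero
  rw [eMap, mul_apply, mul_apply, tmat_apply, tmat_apply, tmat_apply]
  simp only [map_add, map_smul, LinearMap.add_apply, LinearMap.smul_apply, self, h, hwx, smul_eq_mul]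
  match_scalars
  · ring
  · linear_combination (ω v x) * t2
  · linear_combination (ω v w) * t2

theorem eMap_mul [CharP F 2] {x w u : VV} (hw : ω x w = 0) (hu : ω x u = 0) (a b : F) :
    eMap x a w * eMap x b u = eMap x (a + b + ω w u) (w + u) := by
  refine ext_vec fun v => ?_
  have h : ω x (w + u) = 0 := by rw [map_add, hw, hu, add_zero]
  have hux : ω u x = 0 := by rw [sym, hu]
  have huw : ω u w = ω w u := sym u w
  rw [mul_apply, eMap_apply hw, eMap_apply hu, eMap_apply h]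
  simp only [map_add, map_smul, LinearMap.add_apply, LinearMap.smul_apply, self, hw, hux, huw, smul_eq_mul]
  match_scalars <;> ring

theorem eMap_comm [CharP F 2] {x w u : VV} (hw : ω x w = 0) (hu : ω x u = 0) (a b : F) :
    eMap x a w * eMap x b u = eMap x b u * eMap x a w := by
  rw [eMap_mul hw hu, eMap_mul hu hw, sym u w, add_comm w u, add_comm a b]

theorem eMap_zero [CharP F 2] (x : VV) (a : F) : eMap x a 0 = tmat x a := by
  refine ext_vec fun v => ?_
  rw [eMap_apply (map_zero (ω x)), tmat_apply]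
  simp

theorem eMap_conj (g : GG) (x : VV) (a : F) (w : VV) :
    g * eMap x a w * g⁻¹ = eMap (g.1 *ᵥ x) a (g.1 *ᵥ w) := by
  simp only [eMap]
  rw [← mulVec_add, ← conj_tmat g (x + w), ← conj_tmat g w, ← conj_tmat g x]
  group

theorem eMap_smul [CharP F 2] {x w : VV} (h : ω x w = 0) (s a : F) :
    eMap (s • x) a w = eMap x (s * s * a) (s • w) := by
  refine ext_vec fun v => ?_
  rw [eMap_apply (by rw [map_smul, LinearMap.smul_apply, h, smul_zero]),
    eMap_apply (by rw [map_smul, h, smul_zero])]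
  simp only [map_smul, smul_eq_mul, smul_smul]
  match_scalars <;> ring

theorem fixes_eMap {x w : VV} (hx : x ∈ U) (hw : w ∈ U) (a : F) : Fixes U (eMap x a w) :=
  fixes_mul (fixes_mul (fixes_tmat (add_mem hx hw) _) (fixes_tmat hw _)) (fixes_tmat hx _)

/-- Conjugation of the family by a transvection with centre orthogonal to `x`. -/
theorem tmat_eMap [CharP F 2] {x w d : VV} (hw : ω x w = 0) (hd : ω x d = 0) (σ a : F) :
    tmat d σ * eMap x a w * (tmat d σ)⁻¹ =
      eMap x a w * eMap x (σ * (ω w d * ω w d)) ((σ * ω w d) • d) := by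
  have hx : (tmat d σ).1 *ᵥ x = x := by rw [tmat_apply, hd, mul_zero, zero_smul, add_zero]
  have hs : ω x ((σ * ω w d) • d) = 0 := by rw [map_smul, hd, smul_zero]
  rw [eMap_conj, hx, tmat_apply, eMap_mul hw hs]
  congr 1
  rw [map_smul, smul_eq_mul]
  linear_combination -(σ * (ω w d * ω w d)) * (CharTwo.two_eq_zero (R := F))

end CfsgLib.CharBound.SpEven
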