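import Cfsg.Agent.Lib.CharBound.SpEven
import Cfsg.Agent.Lib.CharBound.Irreducible

set_option autoImplicit false

/-! The recursion for the bound of `SpEven` and the statement for irreducible representations. -/

namespace CfsgLib.CharBound.SpEven

open Cfsg Matrix CfsgLib.Sp Module

variable {F : Type*} [Field F] [CharP F 2] [Fintype F] {n : ℕ} {W : Type*} [AddCommGroup W] [Module ℂ W]
  [FiniteDimensional ℂ W] {ρ : Representation ℂ (Matrix.symplecticGroup (Fin n) F) W}

local notation "ω" => sympBilin n F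
local notation "VV" => (Fin n ⊕ Fin n → F)
local notation "GG" => (Matrix.symplecticGroup (Fin n) F)

/-- In dimension at least six some root group is non-trivial on the fixed space of an orthogonal one. -/
theorem exists_orth_moved {U : Submodule F VV} {P : Submodule ℂ W} (hU : Nondeg U) (hP : Inv ρ U P)
    (hnt : NonTriv ρ U P) {m : ℕ} (hm : 2 ≤ m)
    (hcard : Nat.card U = (Fintype.card F ^ (m + 1)) ^ 2) :
    ∃ x ∈ U, ∃ z ∈ U, x ∉ F ∙ z ∧ z ≠ 0 ∧ ω z x = 0 ∧
      ∃ c, ∃ w ∈ P, w ∈ fixed ρ z ∧ ρ (tmat x c) w ≠ w := by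
  classical
  have hq : 1 < Fintype.card F := Fintype.one_lt_card
  have ex_ne : ∀ {U₀ : Submodule F VV}, 1 < Nat.card U₀ → ∃ u ∈ U₀, u ≠ 0 := fun {U₀} h => by
    haveI : Nontrivial U₀ := Finite.one_lt_card_iff_nontrivial.mp h
    obtain ⟨u, hu⟩ := exists_ne (0 : U₀)
    exact ⟨u.1, u.2, fun e => hu (Subtype.ext e)⟩
  -- a totally isotropic `x, e, f`
  obtain ⟨x, hx, hx0⟩ := ex_ne (U₀ := U) (by
    rw [hcard]; exact Nat.one_lt_pow two_ne_zero (Nat.one_lt_pow (by omega) hq))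
  obtain ⟨y, hy, hxy⟩ := hU x hx hx0
  have hc1 := card_eq_mul_perp2 hx hy hxy
  rw [hcard, Nat.card_eq_fintype_card (α := F)] at hc1
  have hc1' : Nat.card (perp2 U x y) = (Fintype.card F ^ m) ^ 2 :=
    Nat.eq_of_mul_eq_mul_left (pow_pos (Nat.zero_lt_of_lt hq) 2)
      (hc1.symm.trans (by rw [← mul_pow, ← pow_succ']))
  have hU₁ := nondeg_perp2 hU hx hy hxy
  obtain ⟨e, he, he0⟩ := ex_ne (U₀ := perp2 U x y) (by
    rw [hc1']; exact Nat.one_lt_pow two_ne_zero (Nat.one_lt_pow (by omega) hq))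
  obtain ⟨e', he', hee'⟩ := hU₁ e he he0
  have hc2 := card_eq_mul_perp2 he he' hee'
  rw [hc1', Nat.card_eq_fintype_card (α := F)] at hc2
  have hc2' : 1 < Nat.card (perp2 (perp2 U x y) e e') := by
    by_contra hle
    have h1 : Nat.card (perp2 (perp2 U x y) e e') * Fintype.card F ^ 2 ≤ 1 * Fintype.card F ^ 2 :=
      Nat.mul_le_mul_right _ (not_lt.mp hle)
    rw [mul_comm, ← hc2, one_mul, ← pow_mul] at h1
    have := (Nat.pow_le_pow_iff_right hq).mp h1
    omega
  obtain ⟨f, hf, hf0⟩ := ex_ne hc2'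
  obtain ⟨heU, hxe, hye⟩ := mem_perp2.mp he
  obtain ⟨hf1, hef, he'f⟩ := mem_perp2.mp hf
  obtain ⟨hfU, hxf, hyf⟩ := mem_perp2.mp hf1
  -- the eigencharacter of the transvections with centres in their span
  let L : Submodule F VV := F ∙ x ⊔ F ∙ e ⊔ F ∙ f
  have hmemL : ∀ u, u ∈ L → ∃ a b c : F, u = a • x + b • e + c • f := by
    intro u hu
    obtain ⟨u₁, h1, u₂, h2, rfl⟩ := Submodule.mem_sup.mp hu
    obtain ⟨u₃, h3, u₄, h4, rfl⟩ := Submodule.mem_sup.mp h1
    obtain ⟨a, rfl⟩ := Submodule.mem_span_singleton.mp h3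
    obtain ⟨b, rfl⟩ := Submodule.mem_span_singleton.mp h4
    obtain ⟨c, rfl⟩ := Submodule.mem_span_singleton.mp h2
    exact ⟨a, b, c, rfl⟩
  have horth : ∀ u ∈ L, ∀ v ∈ L, ω u v = 0 := by
    intro u hu v hv
    obtain ⟨a, b, c, rfl⟩ := hmemL u hu
    obtain ⟨a', b', c', rfl⟩ := hmemL v hv
    simp [self, hxe, hxf, hef, sym e x, sym f x, sym f e]
  have hxL : x ∈ L := Submodule.mem_sup_left (Submodule.mem_sup_left (Submodule.mem_span_singleton_self x))
  have heL : e ∈ L := Submodule.mem_sup_left (Submodule.mem_sup_right (Submodule.mem_span_singleton_self e))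
  have hfL : f ∈ L := Submodule.mem_sup_right (Submodule.mem_span_singleton_self f)
  have hLU : L ≤ U := sup_le (sup_le ((Submodule.span_singleton_le_iff_mem _ _).mpr hx)
    ((Submodule.span_singleton_le_iff_mem _ _).mpr heU)) ((Submodule.span_singleton_le_iff_mem _ _).mpr hfU)
  obtain ⟨c₀, w₀, hw₀, hmove⟩ := nonTriv_at hU hP hnt hx hx0
  let A := L × F
  let act : A → P →ₗ[ℂ] P := fun p => (ρ (tmat p.1.1 p.2)).restrict (hP _ (fixes_tmat (hLU p.1.2) p.2))
  have hcomm : ∀ p r, Commute (act p) (act r) := fun p r => LinearMap.ext fun z => Subtype.ext <| by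
    show ρ (tmat p.1.1 p.2) (ρ (tmat r.1.1 r.2) z) = ρ (tmat r.1.1 r.2) (ρ (tmat p.1.1 p.2) z)
    rw [← rep_mul, ← rep_mul]
    congr 2
    refine ext_vec fun v => ?_
    simp only [mul_apply, tmat_apply, map_add, map_smul, LinearMap.add_apply, LinearMap.smul_apply,
      horth _ r.1.2 _ p.1.2, horth _ p.1.2 _ r.1.2, smul_zero, add_zero]
    abel
  let p₀ : A := (⟨x, hxL⟩, c₀)
  have hpow : act p₀ ^ 2 = 1 := LinearMap.ext fun z => Subtype.ext <| by
    rw [pow_two]
    show ρ (tmat x c₀) (ρ (tmat x c₀) z) = z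
    rw [← rep_mul, tmat_mul, CharTwo.add_self_eq_zero, tmat_zero, map_one]
    rfl
  have hne : act p₀ ≠ 1 := fun h => hmove (congrArg Subtype.val (LinearMap.congr_fun h ⟨w₀, hw₀⟩))
  obtain ⟨v, χ, hv0, hχ₀, hv⟩ := exists_nontrivial_eigen act hcomm p₀ (N := 2) two_ne_zero hpow hne
  let ev : GG → ℂ → Prop := fun g r => ρ g v.1 = r • v.1
  have hev : ∀ (u : VV) (hu : u ∈ L) (c : F), ev (tmat u c) (χ (⟨u, hu⟩, c)) := fun u hu c =>
    congrArg Subtype.val (hv (⟨u, hu⟩, c))
  have hevu : ∀ {g : GG} {r s : ℂ}, ev g r → ev g s → r = s := fun {g r s} h1 h2 =>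
    smul_left_injective ℂ (fun h => hv0 (Subtype.ext h)) (h1.symm.trans h2)
  have hevm : ∀ {g h : GG} {r s : ℂ}, ev g r → ev h s → ev (g * h) (r * s) := fun {g h r s} h1 h2 => by
    show ρ (g * h) v.1 = _
    rw [rep_mul, h2, map_smul, h1, smul_smul, mul_comm]
  obtain ⟨lam, hlam1, hsq, -⟩ := exists_artinSchreier_char (F := F)
  -- the form `φ` and its polar `β`
  have hφ : ∀ u : L, ∃ γ : F, ∀ c, χ (u, c) = lam (γ * c) := fun u =>
    exists_mulShift lam hlam1 (fun c => χ (u, c))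
      (hevu (hev u.1 u.2 0) (show ρ (tmat u.1 0) v.1 = (1 : ℂ) • v.1 by rw [tmat_zero, map_one, one_smul]; rfl))
      (fun a b => hevu (hev u.1 u.2 (a + b)) (by rw [← tmat_mul]; exact hevm (hev u.1 u.2 a) (hev u.1 u.2 b)))
  choose φ hφ using hφ
  -- the cross term between `x` and `u`
  let cross : VV → F → GG := fun u c => tmat (x + u) c * tmat x c * tmat u c
  have hcross_apply : ∀ u ∈ L, ∀ c z, (cross u c).1 *ᵥ z = z + (c * ω z u) • x + (c * ω z x) • u := by
    intro u hu c z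
    have t2 : (2 : F) = 0 := CharTwo.two_eq_zero
    simp only [cross, mul_apply, tmat_apply, map_add, map_smul, LinearMap.add_apply, LinearMap.smul_apply, self,
      horth _ hu _ hxL, horth _ hxL _ hu, smul_eq_mul]
    match_scalars
    · ring
    · linear_combination (c * ω z u) * t2
    · linear_combination (c * ω z x) * t2
  have hevcross : ∀ u (hu : u ∈ L) c, ev (cross u c)
      (χ (⟨x + u, add_mem hxL hu⟩, c) * χ (⟨x, hxL⟩, c) * χ (⟨u, hu⟩, c)) := fun u hu c =>
    hevm (hevm (hev _ _ c) (hev _ _ c)) (hev _ _ c)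
  let β : VV → F := fun u => if hu : u ∈ L then φ ⟨x + u, add_mem hxL hu⟩ + φ ⟨x, hxL⟩ + φ ⟨u, hu⟩ else 0
  have hevβ : ∀ u ∈ L, ∀ c, ev (cross u c) (lam (β u * c)) := fun u hu c => by
    have := hevcross u hu c
    rw [hφ, hφ, hφ, ← AddChar.map_add_eq_mul, ← AddChar.map_add_eq_mul] at this
    simpa only [β, dif_pos hu, add_mul] using this
  have hβsmul : ∀ u ∈ L, ∀ t : F, β (t • u) = t * β u := by
    intro u hu t
    refine mulShift_left_cancel lam hlam1 fun c => ?_
    refine hevu (hevβ _ (L.smul_mem t hu) c) ?_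
    rw [show cross (t • u) c = cross u (t * c) from ext_vec fun z => by
      rw [hcross_apply _ (L.smul_mem t hu), hcross_apply _ hu, map_smul, smul_eq_mul]
      match_scalars <;> ring, show t * β u * c = β u * (t * c) by ring]
    exact hevβ u hu _
  have hβadd : ∀ u ∈ L, ∀ u' ∈ L, β (u + u') = β u + β u' := by
    intro u hu u' hu'
    refine mulShift_left_cancel lam hlam1 fun c => ?_
    refine hevu (hevβ _ (add_mem hu hu') c) ?_
    rw [show cross (u + u') c = cross u c * cross u' c from ext_vec fun z => by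
      rw [hcross_apply _ (add_mem hu hu'), mul_apply, hcross_apply _ hu, hcross_apply _ hu']
      simp only [map_add, map_smul, LinearMap.add_apply, LinearMap.smul_apply, self, horth _ hu _ hxL,
        horth _ hxL _ hu, horth _ hu' _ hu, horth _ hu' _ hxL, smul_eq_mul, mul_zero, add_zero]
      match_scalars <;> ring, add_mul, AddChar.map_add_eq_mul]
    exact hevm (hevβ u hu c) (hevβ u' hu' c)
  have hφx : φ ⟨x, hxL⟩ ≠ 0 := fun h => hχ₀ (by rw [show p₀ = (⟨x, hxL⟩, c₀) from rfl, hφ, h, zero_mul,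
    AddChar.map_zero_eq_one])
  have hindep : ∀ a b c : F, a • x + b • e + c • f = 0 → a = 0 ∧ b = 0 ∧ c = 0 := by
    intro a b c h
    have ha : a = 0 := by
      have := congrArg (ω y) h
      simpa [hye, hyf, sym y x, hxy] using this
    have hb : b = 0 := by
      have := congrArg (ω e') h
      simpa [ha, he'f, sym e' e, hee'] using this
    refine ⟨ha, hb, ?_⟩
    rw [ha, hb] at h
    simpa [hf0] using h
  obtain ⟨v₀, hv₀, hv₀x, hβ⟩ : ∃ v₀ ∈ L, v₀ ∉ F ∙ x ∧ β v₀ = 0 := by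
    have hnot : ∀ b c : F, ¬ (b = 0 ∧ c = 0) → b • e + c • f ∉ F ∙ x := by
      intro b c hbc hmem
      obtain ⟨a, ha⟩ := Submodule.mem_span_singleton.mp hmem
      exact hbc (hindep a b c (by rw [add_assoc, ← ha, ← add_smul, CharTwo.add_self_eq_zero, zero_smul])).2
    by_cases h0 : β e = 0
    · exact ⟨e, heL, by simpa using hnot 1 0 (by simp), h0⟩
    · refine ⟨β f • e + β e • f, add_mem (L.smul_mem _ heL) (L.smul_mem _ hfL),
        hnot _ _ (fun h => h0 h.2), ?_⟩
      rw [hβadd _ (L.smul_mem _ heL) _ (L.smul_mem _ hfL), hβsmul e heL, hβsmul f hfL, mul_comm,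
        CharTwo.add_self_eq_zero]
  obtain ⟨t, ht⟩ : ∃ t, φ ⟨v₀, hv₀⟩ / φ ⟨x, hxL⟩ = t * t :=
    FiniteField.isSquare_of_char_two (ringChar.eq F 2) _
  have hzL : v₀ + t • x ∈ L := add_mem hv₀ (L.smul_mem t hxL)
  refine ⟨x, hx, v₀ + t • x, hLU hzL, fun hmem => hv₀x ?_, fun h => hv₀x ?_, horth _ hzL _ hxL,
    c₀, v.1, v.2, fun c => ?_, fun h => hχ₀ (hevu (hev x hxL c₀) (by
      show ρ (tmat x c₀) v.1 = (1 : ℂ) • v.1
      rw [h, one_smul]))⟩
  · obtain ⟨a, ha⟩ := Submodule.mem_span_singleton.mp hmem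
    have ha0 : a ≠ 0 := fun h => hx0 (by rw [← ha, h, zero_smul])
    refine Submodule.mem_span_singleton.mpr ⟨a⁻¹ - t, ?_⟩
    have h3 : a⁻¹ • x = v₀ + t • x := by
      conv_lhs => rw [← ha]
      rw [smul_smul, inv_mul_cancel₀ ha0, one_smul]
    rw [sub_smul, h3, add_sub_cancel_right]
  · exact Submodule.mem_span_singleton.mpr ⟨-t, by rw [neg_smul, ← eq_neg_of_add_eq_zero_left h]⟩
  · -- the root group of `v₀ + t x` fixes `v`
    have hkey : tmat (v₀ + t • x) c = cross v₀ (t * c) * tmat v₀ c * tmat x (t * t * c) := by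
      refine ext_vec fun z => ?_
      simp only [mul_apply, hcross_apply _ hv₀, tmat_apply, map_add, map_smul, LinearMap.add_apply,
        LinearMap.smul_apply, self, horth _ hv₀ _ hxL, horth _ hxL _ hv₀, smul_eq_mul]
      match_scalars <;> ring
    have h1 : ev (tmat (v₀ + t • x) c) (lam (β v₀ * (t * c)) * χ (⟨v₀, hv₀⟩, c) * χ (⟨x, hxL⟩, t * t * c)) := by
      rw [hkey]
      exact hevm (hevm (hevβ v₀ hv₀ _) (hev _ hv₀ c)) (hev _ hxL _)
    have h2 : φ ⟨v₀, hv₀⟩ * c + φ ⟨x, hxL⟩ * (t * t * c) = 0 := by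
      rw [← ht]
      field_simp
      rw [CharTwo.add_self_eq_zero, mul_zero]
    rw [hφ, hφ, hβ, zero_mul, AddChar.map_zero_eq_one, one_mul, ← AddChar.map_add_eq_mul, h2,
      AddChar.map_zero_eq_one] at h1
    exact h1.trans (one_smul ℂ _)

/-- The bound on every invariant subspace moved by a root group. -/
theorem bound (m : ℕ) : ∀ (U : Submodule F VV) (P : Submodule ℂ W), Nondeg U → Inv ρ U P → NonTriv ρ U P →
    Nat.card U = (Fintype.card F ^ (m + 1)) ^ 2 →
    ((Fintype.card F : ℤ) ^ (m + 1) - 1) * ((Fintype.card F : ℤ) ^ (m + 1) - (Fintype.card F : ℤ)) ≤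
      2 * ((Fintype.card F : ℤ) + 1) * (finrank ℂ P : ℤ) := by
  induction m with
  | zero =>
    intro U P _ _ _ _
    simp only [zero_add, pow_one, sub_self, mul_zero]
    positivity
  | succ m ih =>
    intro U P hU hP hnt hcard
    have hq : 0 < Fintype.card F := Fintype.card_pos
    have hperp : ∀ {x y : VV}, x ∈ U → y ∈ U → ω x y = 1 →
        Nat.card (perp2 U x y) = (Fintype.card F ^ (m + 1)) ^ 2 := fun {x y} hx hy hxy => by
      have h := card_eq_mul_perp2 hx hy hxy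
      rw [hcard, Nat.card_eq_fintype_card (α := F)] at h
      exact Nat.eq_of_mul_eq_mul_left (pow_pos hq 2) (h.symm.trans (by rw [← mul_pow, ← pow_succ']))
    -- the contribution of the fixed space
    obtain ⟨x, hx, y, hy, hxy, hC⟩ : ∃ x ∈ U, ∃ y ∈ U, ω x y = 1 ∧
        ((Fintype.card F : ℤ) ^ (m + 1) - 1) * ((Fintype.card F : ℤ) ^ (m + 1) - (Fintype.card F : ℤ)) ≤
          2 * ((Fintype.card F : ℤ) + 1) * (finrank ℂ (P ⊓ fixed ρ x : Submodule ℂ W) : ℤ) := by
      rcases Nat.eq_zero_or_pos m with rfl | hm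
      · obtain ⟨x₀, hx₀, c, w, hw, hmove⟩ := hnt
        have hx0 : x₀ ≠ 0 := fun h => hmove (by
          rw [h, show tmat (0 : VV) c = 1 from ext_vec fun v => by simp [tmat_apply], map_one]; rfl)
        obtain ⟨y, hy, hxy⟩ := hU x₀ hx₀ hx0
        refine ⟨x₀, hx₀, y, hy, hxy, ?_⟩
        simp only [zero_add, pow_one, sub_self, mul_zero]
        positivity
      · obtain ⟨x, hx, z, hz, hxz, hz0, hzx, c, w, hwP, hwz, hmove⟩ :=
          exists_orth_moved hU hP hnt (m := m + 1) (by omega) hcard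
        obtain ⟨y, hy, hzy, hxy⟩ := exists_partner_orth hU hz hx hz0 hxz
        refine ⟨z, hz, y, hy, hzy, ih (perp2 U z y) (P ⊓ fixed ρ z) (nondeg_perp2 hU hz hy hzy) ?_
          ⟨x, mem_perp2.mpr ⟨hx, hzx, by rw [sym, hxy]⟩, c, w, ⟨hwP, hwz⟩, hmove⟩ (hperp hz hy hzy)⟩
        intro g hg u hu
        refine ⟨hP g (fixes_mono (fun a ha => (mem_perp2.mp ha).1) hg) u hu.1, fun c' => ?_⟩
        have hgz : g.1 *ᵥ z = z := fixes_apply hg fun a ha => (mem_perp2.mp ha).2.1
        have hcomm : tmat z c' * g = g * tmat z c' := by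
          conv_lhs => rw [← hgz, ← conj_tmat]
          group
        rw [← rep_mul, hcomm, rep_mul, hu.2 c']
    have hstep := step_bound hU hP hnt hx hy hxy (hperp hx hy hxy)
    have hq' : (0 : ℤ) ≤ (Fintype.card F : ℤ) := Nat.cast_nonneg _
    calc _ = ((Fintype.card F : ℤ) ^ (m + 1) - 1) * ((Fintype.card F : ℤ) ^ (m + 1) - (Fintype.card F : ℤ)) +
          ((Fintype.card F : ℤ) + 1) * (((Fintype.card F : ℤ) - 1) *
            (((Fintype.card F : ℤ) ^ (m + 1)) ^ 2 - (Fintype.card F : ℤ) ^ (m + 1))) := by ring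
      _ ≤ 2 * ((Fintype.card F : ℤ) + 1) * (finrank ℂ (P ⊓ fixed ρ x : Submodule ℂ W) : ℤ) +
          ((Fintype.card F : ℤ) + 1) * (((Fintype.card F : ℤ) - 1) *
            (((Fintype.card F : ℤ) ^ (m + 1)) ^ 2 - (Fintype.card F : ℤ) ^ (m + 1))) := by gcongr
      _ = ((Fintype.card F : ℤ) + 1) * (2 * (finrank ℂ (P ⊓ fixed ρ x : Submodule ℂ W) : ℤ) +
            ((Fintype.card F : ℤ) - 1) *
              (((Fintype.card F : ℤ) ^ (m + 1)) ^ 2 - (Fintype.card F : ℤ) ^ (m + 1))) := by ring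
      _ ≤ ((Fintype.card F : ℤ) + 1) * (2 * (finrank ℂ P : ℤ)) := mul_le_mul_of_nonneg_left hstep (by positivity)
      _ = _ := by ring

theorem min_degree {k : ℕ} (hn : 2 ≤ n) (ρ : Representation ℂ (Matrix.symplecticGroup (Fin n) F) (Fin k → ℂ))
    (hρ : ρ.IsIrreducible) (hk : 2 ≤ k) :
    (Fintype.card F ^ n - 1) * (Fintype.card F ^ n - Fintype.card F) / (2 * (Fintype.card F + 1)) ≤ k := by
  classical
  have hnt : NonTriv ρ ⊤ ⊤ := by
    by_contra h
    simp only [NonTriv, not_exists, not_and, not_not] at h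
    have htriv : ∀ g, ρ g = 1 := by
      intro g
      have : (ρ : Matrix.symplecticGroup (Fin n) F →* _).ker = ⊤ := le_of_tmat_mem fun v c => by
        rw [MonoidHom.mem_ker]
        exact LinearMap.ext fun w => h v trivial c w trivial
      exact MonoidHom.mem_ker.mp (this ▸ Subgroup.mem_top g)
    have := finrank_eq_one_of_trivial ρ hρ htriv
    rw [finrank_pi, Fintype.card_fin] at this
    omega
  have hU : Nondeg (⊤ : Submodule F VV) := fun u _ hu => by
    obtain ⟨v, hv⟩ := exists_pair_one hu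
    exact ⟨v, trivial, by rw [sympBilin_apply]; exact hv⟩
  have hb := bound (ρ := ρ) (n - 1) ⊤ ⊤ hU (fun _ _ _ _ => trivial) hnt (by
    rw [Nat.card_congr (Submodule.topEquiv : (⊤ : Submodule F VV) ≃ₗ[F] VV).toEquiv]
    simp [Nat.sub_add_cancel (show 1 ≤ n by omega), pow_two, pow_add])
  rw [Nat.sub_add_cancel (show 1 ≤ n by omega), finrank_top, finrank_pi, Fintype.card_fin] at hb
  refine Nat.div_le_of_le_mul ?_
  have h1 : 1 ≤ Fintype.card F ^ n := Nat.one_le_pow _ _ Fintype.card_pos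
  have h2 : Fintype.card F ≤ Fintype.card F ^ n := Nat.le_self_pow (by omega) _
  zify [h1, h2]
  exact hb

end CfsgLib.CharBound.SpEven
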